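import Groth.Prelude.Def_AlphaP
import Mathlib.Algebra.DualNumber
import Mathlib.Algebra.CharP.Lemmas
import Mathlib.Data.ZMod.Basic

/-!
A natural biadditive pairing on `α_p` with values in the multiplicative group which is trivial on a pair of
independent tangent vectors is trivial.
-/

set_option autoImplicit false
set_option linter.style.haveILetI false
universe u

noncomputable section

namespace Groth.Agent.CommPair58.Alpha

open TrivSqZeroExt
open scoped DualNumber

variable {p : ℕ} [hp : Fact p.Prime]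

theorem eps_pow {S : Type*} [CommRing S] {n : ℕ} (hn : 2 ≤ n) : (DualNumber.eps : S[ε]) ^ n = 0 := by
  obtain ⟨m, rfl⟩ := Nat.exists_eq_add_of_le hn
  rw [pow_add, pow_two, DualNumber.eps_mul_eps, zero_mul]

theorem inl_pow_eq_zero {S : Type*} [CommRing S] {a : S} (ha : a ^ p = 0) : (inl a : S[ε]) ^ p = 0 := by
  rw [inl_pow, ha, inl_zero]

/-- a function on `α_p` with vanishing derivative is constant -/
theorem eq_of_deriv_eq_zero {k : Type u} [Field k] [CharP k p] {S : Type u} [CommRing S] [Algebra k S]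
    [Nontrivial S] (z : AlphaP.A p S)
    (hw : (inl (AlphaP.x p S) + DualNumber.eps : (AlphaP.A p S)[ε]) ^ p = 0)
    (hz : snd (AlphaP.lift p S (inl (AlphaP.x p S) + DualNumber.eps) hw z) = 0) :
    z = algebraMap S _ (AlphaP.lift p S (0 : S) (zero_pow hp.out.ne_zero) z) := by
  classical
  let b := AlphaP.basis p S
  have hsum : z = ∑ i, b.repr z i • AlphaP.x p S ^ (i : ℕ) := by
    conv_lhs => rw [← b.sum_repr z]
    simp [b]
  have hD : ∑ i : Fin p, ((i : ℕ) * b.repr z i) • AlphaP.x p S ^ ((i : ℕ) - 1) = 0 := by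
    rw [← hz]
    conv_rhs => rw [hsum]
    rw [map_sum, snd_sum]
    refine Finset.sum_congr rfl fun i _ => ?_
    rw [map_smul, map_pow, AlphaP.lift_x, snd_smul, snd_pow]
    simp [mul_smul, smul_comm, Nat.cast_smul_eq_nsmul]
  have hzero : ∀ i : Fin p, (i : ℕ) ≠ 0 → b.repr z i = 0 := by
    intro i hi
    let j : Fin p := ⟨(i : ℕ) - 1, by omega⟩
    have h := congrArg (fun w => b.repr w j) hD
    simp only [map_sum, map_zero, Finsupp.coe_zero, Pi.zero_apply, Finsupp.coe_finset_sum, Finset.sum_apply] at h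
    rw [Finset.sum_eq_single i] at h
    · rw [map_smul, show AlphaP.x p S ^ ((i : ℕ) - 1) = b j by simp [b, j], b.repr_self, Finsupp.smul_apply,
        Finsupp.single_eq_same, smul_eq_mul, mul_one] at h
      have hu : IsUnit ((i : ℕ) : S) := by
        have h2 : IsUnit ((i : ℕ) : k) := isUnit_iff_ne_zero.2 fun h0 => hi (Nat.eq_zero_of_dvd_of_lt
          ((CharP.cast_eq_zero_iff k p _).1 h0) i.2)
        have h3 := h2.map (algebraMap k S)
        rwa [map_natCast] at h3
      exact hu.mul_right_eq_zero.1 h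
    · intro l _ hl
      by_cases hl0 : (l : ℕ) = 0
      · simp [hl0]
      · rw [map_smul, show AlphaP.x p S ^ ((l : ℕ) - 1) = b ⟨(l : ℕ) - 1, by omega⟩ by simp [b], b.repr_self,
          Finsupp.smul_apply, Finsupp.single_eq_of_ne, smul_zero]
        intro h'
        simp only [j, Fin.mk.injEq] at h'
        exact hl (Fin.ext (by omega))
    · exact fun h => absurd (Finset.mem_univ i) h
  let i0 : Fin p := ⟨0, hp.out.pos⟩
  have h0 : z = b.repr z i0 • (1 : AlphaP.A p S) := by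
    conv_lhs => rw [hsum]
    rw [Finset.sum_eq_single i0 (fun i _ hi => by rw [hzero i fun h => hi (Fin.ext h), zero_smul])
      fun h => absurd (Finset.mem_univ _) h]
    simp [i0]
  conv_rhs => rw [h0, map_smul, map_one, smul_eq_mul, mul_one]
  rw [Algebra.algebraMap_eq_smul_one]
  exact h0

variable {k : Type u} [Field k] [CharP k p]

/-- A biadditive natural pairing on `α_p` trivial on a pair of independent tangent vectors is trivial. -/
theorem pairing_eq_one
    (F : ∀ (B : Type u) [CommRing B] [Algebra k B] (a b : B), a ^ p = 0 → b ^ p = 0 → B)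
    (hnat : ∀ (B C : Type u) [CommRing B] [Algebra k B] [CommRing C] [Algebra k C] (φ : B →ₐ[k] C) (a b : B)
      (ha : a ^ p = 0) (hb : b ^ p = 0),
      φ (F B a b ha hb) = F C (φ a) (φ b) (by rw [← map_pow, ha, map_zero]) (by rw [← map_pow, hb, map_zero]))
    (hl : ∀ (B : Type u) [CommRing B] [Algebra k B] (a a' b : B) (ha : a ^ p = 0) (ha' : a' ^ p = 0)
      (hb : b ^ p = 0) (haa : (a + a') ^ p = 0), F B (a + a') b haa hb = F B a b ha hb * F B a' b ha' hb)
    (hr : ∀ (B : Type u) [CommRing B] [Algebra k B] (a b b' : B) (ha : a ^ p = 0) (hb : b ^ p = 0)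
      (hb' : b' ^ p = 0) (hbb : (b + b') ^ p = 0), F B a (b + b') ha hbb = F B a b ha hb * F B a b' ha hb')
    (hl0 : ∀ (B : Type u) [CommRing B] [Algebra k B] (b : B) (h0 : (0 : B) ^ p = 0) (hb : b ^ p = 0),
      F B 0 b h0 hb = 1)
    (hr0 : ∀ (B : Type u) [CommRing B] [Algebra k B] (a : B) (ha : a ^ p = 0) (h0 : (0 : B) ^ p = 0),
      F B a 0 ha h0 = 1)
    (hsym : F (k[ε])[ε] (inl DualNumber.eps) DualNumber.eps (inl_pow_eq_zero (eps_pow hp.out.two_le))
      (eps_pow hp.out.two_le) = 1)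
    (B : Type u) [CommRing B] [Algebra k B] (a b : B) (ha : a ^ p = 0) (hb : b ^ p = 0) : F B a b ha hb = 1 := by
  classical
  have hadd : ∀ {C : Type u} [CommRing C] [Algebra k C] {u v : C}, u ^ p = 0 → v ^ p = 0 → (u + v) ^ p = 0 :=
    fun {C} _ _ {u v} hu hv => AlphaP.add_pow_eq_zero p k (Commute.all u v) hu hv
  have hcongr : ∀ (C : Type u) [CommRing C] [Algebra k C] (u u' v v' : C) (hu : u ^ p = 0) (hv : v ^ p = 0)
      (hu' : u' ^ p = 0) (hv' : v' ^ p = 0), u = u' → v = v' → F C u v hu hv = F C u' v' hu' hv' := by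
    intro C _ _ u u' v v' hu hv hu' hv' h1 h2
    subst h1; subst h2; rfl
  have he2 : ∀ (C : Type u) [CommRing C] [Algebra k C], (DualNumber.eps : C[ε]) ^ p = 0 :=
    fun C _ _ => eps_pow hp.out.two_le
  let L : ∀ (C : Type u) [CommRing C] [Algebra k C] (v : C), v ^ p = 0 → C := fun C _ _ v hv =>
    snd (F C[ε] (inl v) DualNumber.eps (inl_pow_eq_zero hv) (he2 C))
  have hfst : ∀ (C : Type u) [CommRing C] [Algebra k C] (v : C) (hv : v ^ p = 0),
      fst (F C[ε] (inl v) DualNumber.eps (inl_pow_eq_zero hv) (he2 C)) = 1 := fun C _ _ v hv => by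
    have h := hnat C[ε] C (fstHom k C C) (inl v) DualNumber.eps (inl_pow_eq_zero hv) (he2 C)
    rw [fstHom_apply] at h
    rw [h]
    exact (hcongr C _ v _ 0 _ _ hv (zero_pow hp.out.ne_zero) (by simp) (by simp)).trans (hr0 C v hv _)
  have hLcongr : ∀ (C : Type u) [CommRing C] [Algebra k C] (v v' : C) (hv : v ^ p = 0) (hv' : v' ^ p = 0),
      v = v' → L C v hv = L C v' hv' := by
    intro C _ _ v v' hv hv' h1
    subst h1; rfl
  have hLnat : ∀ (C C' : Type u) [CommRing C] [Algebra k C] [CommRing C'] [Algebra k C'] (φ : C →ₐ[k] C')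
      (v : C) (hv : v ^ p = 0), φ (L C v hv) = L C' (φ v) (by rw [← map_pow, hv, map_zero]) := by
    intro C C' _ _ _ _ φ v hv
    let Φ : C[ε] →ₐ[k] C'[ε] := DualNumber.lift ⟨((inlAlgHom k C' C').comp φ, DualNumber.eps),
      DualNumber.eps_mul_eps, fun _ => Commute.all _ _⟩
    have hΦ : ∀ z, snd (Φ z) = φ (snd z) := fun z => by
      simp [Φ, DualNumber.lift_apply_apply]
    have h := congrArg snd (hnat _ _ Φ (inl v) DualNumber.eps (inl_pow_eq_zero hv) (he2 C))
    rw [hΦ] at h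
    exact h.trans (congrArg snd (hcongr _ _ _ _ _ _ _ _ _ (by simp [Φ]) (by simp [Φ])))
  have hLadd : ∀ (C : Type u) [CommRing C] [Algebra k C] (v w : C) (hv : v ^ p = 0) (hw : w ^ p = 0),
      L C (v + w) (hadd hv hw) = L C v hv + L C w hw := by
    intro C _ _ v w hv hw
    show snd _ = _
    rw [hcongr C[ε] (inl (v + w)) (inl v + inl w) DualNumber.eps DualNumber.eps (inl_pow_eq_zero (hadd hv hw)) (he2 C)
      (hadd (inl_pow_eq_zero hv) (inl_pow_eq_zero hw)) (he2 C) (by simp) rfl, hl _ _ _ _ (inl_pow_eq_zero hv) (inl_pow_eq_zero hw), DualNumber.snd_mul, hfst C v hv, hfst C w hw,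
      one_mul, mul_one, add_comm]
  have hL0 : ∀ (C : Type u) [CommRing C] [Algebra k C] (h0 : (0 : C) ^ p = 0), L C 0 h0 = 0 := fun C _ _ h0 => by
    show snd _ = _
    rw [hcongr C[ε] (inl 0) 0 DualNumber.eps DualNumber.eps (inl_pow_eq_zero h0) (he2 C) (zero_pow hp.out.ne_zero)
      (he2 C) (inl_zero _) rfl, hl0]
    rfl
  have hLeps : ∀ (C : Type u) [CommRing C] [Algebra k C], L C[ε] DualNumber.eps (he2 C) = 0 := by
    intro C _ _
    let ψ : k[ε] →ₐ[k] C[ε] := DualNumber.lift ⟨(Algebra.ofId k C[ε], DualNumber.eps),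
      DualNumber.eps_mul_eps, fun _ => Commute.all _ _⟩
    have h := hLnat k[ε] C[ε] ψ DualNumber.eps (he2 k)
    have h1 : L k[ε] DualNumber.eps (he2 k) = 0 := by
      show snd _ = _
      rw [hsym]
      rfl
    exact (hLcongr C[ε] _ (ψ DualNumber.eps) (he2 C) (by rw [← map_pow, he2 k, map_zero]) (by simp [ψ])).trans (h.symm.trans ((congrArg ψ h1).trans (map_zero _)))
  -- the linear part vanishes
  let A₁ := AlphaP.A p k
  have hx : AlphaP.x p k ^ p = 0 := AlphaP.x_pow p k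
  let e1 : A₁ := L A₁ (AlphaP.x p k) hx
  have hLe : ∀ (C : Type u) [CommRing C] [Algebra k C] (v : C) (hv : v ^ p = 0),
      L C v hv = AlphaP.lift p k v hv e1 := fun C _ _ v hv =>
    (hLcongr C v (AlphaP.lift p k v hv (AlphaP.x p k)) hv (by rw [AlphaP.lift_x, hv]) (AlphaP.lift_x v hv).symm).trans (hLnat A₁ C (AlphaP.lift p k v hv) (AlphaP.x p k) hx).symm
  have he1 : e1 = 0 := by
    have hw : (inl (AlphaP.x p k) + DualNumber.eps : A₁[ε]) ^ p = 0 := hadd (inl_pow_eq_zero hx) (he2 A₁)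
    have h1 := hLadd A₁[ε] (inl (AlphaP.x p k)) DualNumber.eps (inl_pow_eq_zero hx) (he2 A₁)
    rw [hLeps, add_zero, hLe A₁[ε] _ hw] at h1
    have h2 : L A₁[ε] (inl (AlphaP.x p k)) (inl_pow_eq_zero hx) = inl e1 :=
      (hLnat A₁ A₁[ε] (inlAlgHom k A₁ A₁) (AlphaP.x p k) hx).symm
    rw [h2] at h1
    rw [eq_of_deriv_eq_zero (k := k) e1 hw (by rw [h1, snd_inl]), ← hLe k 0 (zero_pow hp.out.ne_zero), hL0 k (zero_pow hp.out.ne_zero), map_zero]
  have hLz : ∀ (C : Type u) [CommRing C] [Algebra k C] (v : C) (hv : v ^ p = 0), L C v hv = 0 :=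
    fun C _ _ v hv => by rw [hLe C v hv, he1, map_zero]
  -- the universal value
  let Bu := AlphaP.A p A₁
  letI : Algebra k Bu := ((algebraMap A₁ Bu).comp (algebraMap k A₁)).toAlgebra
  haveI : IsScalarTower k A₁ Bu := IsScalarTower.of_algebraMap_eq fun _ => rfl
  haveI : Nontrivial A₁ := Module.nontrivial_of_finrank_pos (R := k) (by rw [AlphaP.finrank_eq]; exact hp.out.pos)
  let X : Bu := algebraMap A₁ Bu (AlphaP.x p k)
  let Y : Bu := AlphaP.x p A₁
  have hX : X ^ p = 0 := by rw [← map_pow, hx, map_zero]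
  have hY : Y ^ p = 0 := AlphaP.x_pow p A₁
  let f : Bu := F Bu X Y hX hY
  have hev : ∀ (C : Type u) [CommRing C] [Algebra k C] [Algebra A₁ C] [IsScalarTower k A₁ C] (v : C) (hv : v ^ p = 0)
      (hu : algebraMap A₁ C (AlphaP.x p k) ^ p = 0),
      AlphaP.lift p A₁ v hv f = F C (algebraMap A₁ C (AlphaP.x p k)) v hu hv := by
    intro C _ _ _ _ v hv hu
    exact (hnat Bu C ((AlphaP.lift p A₁ v hv).restrictScalars k) X Y hX hY).trans
      (hcongr _ _ _ _ _ _ _ _ _ ((AlphaP.lift p A₁ v hv).commutes _) (AlphaP.lift_x v hv))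
  have hf : f = 1 := by
    letI : Algebra A₁ Bu[ε] := inferInstance
    haveI : IsScalarTower k A₁ Bu[ε] := IsScalarTower.of_algebraMap_eq fun _ => rfl
    have hw : (inl Y + DualNumber.eps : Bu[ε]) ^ p = 0 := hadd (inl_pow_eq_zero hY) (he2 Bu)
    have hu : algebraMap A₁ Bu[ε] (AlphaP.x p k) ^ p = 0 := by rw [← map_pow, hx, map_zero]
    have h := hev Bu[ε] _ hw hu
    rw [hr _ _ _ _ hu (inl_pow_eq_zero hY) (he2 Bu)] at h
    have h1 : F Bu[ε] (algebraMap A₁ Bu[ε] (AlphaP.x p k)) (inl Y) hu (inl_pow_eq_zero hY) = inl f :=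
      (hcongr _ _ _ _ _ _ _ _ _ rfl rfl).trans (hnat Bu Bu[ε] (inlAlgHom k Bu Bu) X Y hX hY).symm
    have h2 : F Bu[ε] (algebraMap A₁ Bu[ε] (AlphaP.x p k)) DualNumber.eps hu (he2 Bu) = 1 := by
      refine TrivSqZeroExt.ext ?_ ?_
      · exact (congrArg fst (hcongr _ _ _ _ _ _ _ _ _ rfl rfl)).trans (hfst Bu X hX)
      · exact (congrArg snd (hcongr _ _ _ _ _ _ _ _ _ rfl rfl)).trans (hLz Bu X hX)
    rw [h1, h2, mul_one] at h
    rw [show f = algebraMap A₁ Bu (AlphaP.lift p A₁ (0 : A₁) (zero_pow hp.out.ne_zero) f) from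
      eq_of_deriv_eq_zero (k := k) f hw (by rw [h, snd_inl]), hev A₁ _ _ hx, hr0, map_one]
  let ψ : A₁ →ₐ[k] B := AlphaP.lift p k a ha
  letI : Algebra A₁ B := ψ.toRingHom.toAlgebra
  haveI : IsScalarTower k A₁ B := IsScalarTower.of_algebraMap_eq fun r => (ψ.commutes r).symm
  have hu : algebraMap A₁ B (AlphaP.x p k) ^ p = 0 := by rw [← map_pow, hx, map_zero]
  rw [hcongr B a (algebraMap A₁ B (AlphaP.x p k)) b b ha hb hu hb (AlphaP.lift_x a ha).symm rfl, ← hev B b hb hu,
    hf, map_one]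

end Groth.Agent.CommPair58.Alpha
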