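import Mathlib.RingTheory.RootsOfUnity.AlgebraicallyClosed
import Mathlib.Algebra.MonoidAlgebra.Basic
import Mathlib.RingTheory.Spectrum.Prime.Basic
import Mathlib.RingTheory.Ideal.Quotient.Basic
import Mathlib.FieldTheory.IsAlgClosed.AlgebraicClosure
import Mathlib.RingTheory.LocalRing.ResidueField.Ideal

/-!
Alternating bimultiplicative natural pairings of roots of unity are trivial.
-/

set_option autoImplicit false
set_option linter.style.haveILetI false
universe u

noncomputable section

namespace Groth.Agent.CommPair58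

open MonoidAlgebra

variable {n : ℕ} [NeZero n]

local notation "G" => Multiplicative (ZMod n)

/-- roots of unity have no alternating pairing with values in the cyclic group -/
theorem eq_one_of_alternating {K : Type*} [Field K] [IsAlgClosed K] (J : (G →* K) →* G)
    (hJ : ∀ a : G →* K, a (J a) = 1) (a : G →* K) : J a = 1 := by
  obtain ⟨k, m, hnm, hm, h5⟩ : ∃ k m : ℕ, n = ringExpChar K ^ k * m ∧ (m : K) ≠ 0 ∧
      Nat.Coprime (ringExpChar K ^ k) m := by
    rcases (CharP.char_is_prime_or_zero K (ringChar K)) with hp | h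
    · obtain ⟨k, m, hm, hnm⟩ := Nat.exists_eq_pow_mul_and_not_dvd (NeZero.ne n) (ringChar K) hp.ne_one
      haveI : Fact (ringChar K).Prime := ⟨hp⟩
      rw [show ringExpChar K = ringChar K from max_eq_left hp.one_le]
      exact ⟨k, m, hnm, fun h0 => hm ((ringChar.spec K m).1 h0), (hp.coprime_iff_not_dvd.2 hm).pow_left k⟩
    · haveI : CharP K 0 := ringChar.of_eq h
      haveI : CharZero K := CharP.charP_to_charZero K
      exact ⟨0, n, by rw [pow_zero, one_mul], Nat.cast_ne_zero.2 (NeZero.ne n),
        by rw [pow_zero]; exact Nat.coprime_one_left n⟩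
  haveI : NeZero (m : K) := ⟨hm⟩
  haveI : NeZero m := NeZero.of_neZero_natCast K
  obtain ⟨ω, hω⟩ := HasEnoughRootsOfUnity.exists_primitiveRoot K m
  have hωn : ω ^ n = 1 := by rw [hnm, mul_comm, pow_mul, hω.pow_eq_one, one_pow]
  let g : G →* K :=
    { toFun := fun x => ω ^ x.toAdd.val
      map_one' := by simp
      map_mul' := fun x y => by
        rw [toAdd_mul, ZMod.val_add, ← pow_eq_pow_mod _ hωn, pow_add] }
  have hgen : ∀ x : G, x = Multiplicative.ofAdd (1 : ZMod n) ^ x.toAdd.val := fun x => by
    rw [← ofAdd_nsmul, nsmul_one, ZMod.natCast_zmod_val, ofAdd_toAdd]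
  have hall : ∀ b : G →* K, ∃ i : ℕ, b = g ^ i := fun b => by
    have hb : b (Multiplicative.ofAdd 1) ^ m = 1 := by
      rw [← ExpChar.pow_prime_pow_mul_eq_one_iff (ringExpChar K) k m, ← hnm, ← map_pow, ← ofAdd_nsmul, nsmul_one,
        ZMod.natCast_self, ofAdd_zero, map_one]
    obtain ⟨i, -, hi⟩ := hω.eq_pow_of_pow_eq_one hb
    refine ⟨i, MonoidHom.ext fun x => ?_⟩
    show b x = (ω ^ x.toAdd.val) ^ i
    conv_lhs => rw [hgen x]
    rw [map_pow, ← hi, pow_right_comm]
  have hg : J g = 1 := by
    set v := (J g).toAdd.val with hv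
    have h1 : m ∣ v := hω.dvd_of_pow_eq_one v (hJ g)
    have h2 : n ∣ m * v := by
      have hgm : g ^ m = 1 := MonoidHom.ext fun x => by
        show (ω ^ x.toAdd.val) ^ m = 1
        rw [pow_right_comm, hω.pow_eq_one, one_pow]
      have h3 : J g ^ m = 1 := by rw [← map_pow, hgm, map_one]
      have h4 : Multiplicative.ofAdd (1 : ZMod n) ^ (v * m) = 1 := by rw [pow_mul, hv, ← hgen, h3]
      rw [← ofAdd_nsmul, nsmul_one, ofAdd_eq_one, ZMod.natCast_eq_zero_iff] at h4
      rwa [mul_comm]
    have h6 : n ∣ v := by
      rw [hnm] at h2 ⊢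
      exact h5.mul_dvd_of_dvd_of_dvd (h5.dvd_of_dvd_mul_left ((dvd_mul_right _ _).trans h2)) h1
    have h7 : v = 0 := Nat.eq_zero_of_dvd_of_lt h6 (ZMod.val_lt _)
    rw [hgen (J g), ← hv, h7, pow_zero]
  obtain ⟨i, rfl⟩ := hall a
  rw [map_pow, hg, one_pow]

theorem coeff_inl_mul_inr {A : Type*} [CommRing A] {H : Type*} [CommGroup H]
    (x y : MonoidAlgebra A H) (a b : H) :
    (MonoidAlgebra.mapDomainRingHom A (MonoidHom.inl H H) x *
      MonoidAlgebra.mapDomainRingHom A (MonoidHom.inr H H) y).coeff (a, b) = x.coeff a * y.coeff b := by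
  classical
  induction x using MonoidAlgebra.induction_linear with
  | zero => simp
  | add f g hf hg => simp only [map_add, add_mul, MonoidAlgebra.coeff_add, Finsupp.add_apply, hf, hg]
  | single g r =>
    induction y using MonoidAlgebra.induction_linear with
    | zero => simp
    | add f g hf hg => simp only [map_add, mul_add, MonoidAlgebra.coeff_add, Finsupp.add_apply, hf, hg]
    | single g' r' =>
      show (MonoidAlgebra.mapDomain _ _ * MonoidAlgebra.mapDomain _ _ : MonoidAlgebra A (H × H)).coeff _ = _
      rw [MonoidAlgebra.mapDomain_single, MonoidAlgebra.mapDomain_single, MonoidAlgebra.single_mul_single]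
      simp only [MonoidAlgebra.coeff_single, Finsupp.single_apply, MonoidHom.inl_apply, MonoidHom.inr_apply,
        Prod.mk_mul_mk, mul_one, one_mul, Prod.mk.injEq]
      by_cases h1 : g = a <;> by_cases h2 : g' = b <;> simp [h1, h2]

variable {R : Type u} [CommRing R]

/-- A natural pairing on roots of unity which is multiplicative in each variable and trivial on the diagonal is
trivial. -/
theorem pairing_eq_one
    (F : ∀ (A : Type u) [CommRing A] [Algebra R A], (G →* A) → (G →* A) → A)
    (hnat : ∀ (A B : Type u) [CommRing A] [Algebra R A] [CommRing B] [Algebra R B] (φ : A →ₐ[R] B) (x y : G →* A),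
      φ (F A x y) = F B ((φ : A →* B).comp x) ((φ : A →* B).comp y))
    (hl : ∀ (A : Type u) [CommRing A] [Algebra R A] (x x' y : G →* A), F A (x * x') y = F A x y * F A x' y)
    (hr : ∀ (A : Type u) [CommRing A] [Algebra R A] (x y y' : G →* A), F A x (y * y') = F A x y * F A x y')
    (hl1 : ∀ (A : Type u) [CommRing A] [Algebra R A] (y : G →* A), F A 1 y = 1)
    (hr1 : ∀ (A : Type u) [CommRing A] [Algebra R A] (x : G →* A), F A x 1 = 1)
    (hd : ∀ (A : Type u) [CommRing A] [Algebra R A] (x : G →* A), F A x x = 1)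
    (A : Type u) [CommRing A] [Algebra R A] (x y : G →* A) : F A x y = 1 := by
  classical
  let A₁ := MonoidAlgebra R G
  let B := MonoidAlgebra A₁ G
  let u₀ : G →* A₁ := MonoidAlgebra.of R G
  let u' : G →* B := ((algebraMap A₁ B : A₁ →+* B) : A₁ →* B).comp u₀
  let v : G →* B := MonoidAlgebra.of A₁ G
  let f : B := F B u' v
  let ev : ∀ (A' : Type u) [CommRing A'] [Algebra R A'], (A₁ →ₐ[R] A') → (G →* A') → (B →ₐ[R] A') :=
    fun A' _ _ ψ b => MonoidAlgebra.liftNCAlgHom ψ b (fun _ _ => Commute.all _ _)
  have hev : ∀ (A' : Type u) [CommRing A'] [Algebra R A'] (ψ : A₁ →ₐ[R] A') (b : G →* A') (g : G) (r : A₁),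
      ev A' ψ b (single g r) = ψ r * b g := fun A' _ _ ψ b g r => MonoidAlgebra.liftNC_single _ _ _ _
  have hevF : ∀ (A' : Type u) [CommRing A'] [Algebra R A'] (ψ : A₁ →ₐ[R] A') (b : G →* A'),
      ev A' ψ b f = F A' ((ψ : A₁ →* A').comp u₀) b := fun A' _ _ ψ b => by
    rw [hnat]
    congr 1
    · refine MonoidHom.ext fun g => ?_
      show ev A' ψ b (algebraMap A₁ B (u₀ g)) = ψ (u₀ g)
      rw [show algebraMap A₁ B (u₀ g) = single 1 (u₀ g) from rfl, hev, map_one, mul_one]
    · refine MonoidHom.ext fun g => ?_
      show ev A' ψ b (single g 1) = b g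
      rw [hev, map_one, one_mul]
  suffices hf : f = 1 by
    have hx : (MonoidAlgebra.lift R A G x : A₁ →* A).comp u₀ = x := MonoidHom.ext fun g => by
      show MonoidAlgebra.lift R A G x (single g 1) = x g
      rw [MonoidAlgebra.lift_single, one_smul]
    rw [← hx, ← hevF A _ y, hf, map_one]
  -- the coefficients of the universal value are orthogonal idempotents
  have hmul : ∀ a b : G, f.coeff a * f.coeff b = if a = b then f.coeff a else 0 := by
    let B₂ := MonoidAlgebra A₁ (G × G)
    let mp : (G →* G × G) → (B →ₐ[R] B₂) := fun i => MonoidAlgebra.mapDomainAlgHom R A₁ i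
    have hmp : ∀ (i : G →* G × G), mp i f =
        F B₂ (((algebraMap A₁ B₂ : A₁ →+* B₂) : A₁ →* B₂).comp u₀) ((MonoidAlgebra.of A₁ (G × G)).comp i) :=
      fun i => by
        rw [hnat]
        congr 1
        · refine MonoidHom.ext fun g => ?_
          show MonoidAlgebra.mapDomain i (single 1 (u₀ g)) = single 1 (u₀ g)
          rw [MonoidAlgebra.mapDomain_single, map_one]
        · refine MonoidHom.ext fun g => ?_
          show MonoidAlgebra.mapDomain i (single g 1) = single (i g) 1
          rw [MonoidAlgebra.mapDomain_single]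
    have h := hr B₂ (((algebraMap A₁ B₂ : A₁ →+* B₂) : A₁ →* B₂).comp u₀)
      ((MonoidAlgebra.of A₁ (G × G)).comp (MonoidHom.inl G G)) ((MonoidAlgebra.of A₁ (G × G)).comp (MonoidHom.inr G G))
    rw [← hmp, ← hmp, show (MonoidAlgebra.of A₁ (G × G)).comp (MonoidHom.inl G G) *
        (MonoidAlgebra.of A₁ (G × G)).comp (MonoidHom.inr G G) =
        (MonoidAlgebra.of A₁ (G × G)).comp ((MonoidHom.id G).prod (MonoidHom.id G)) by
      refine MonoidHom.ext fun g => ?_
      show single (g, 1) 1 * single (1, g) 1 = single (g, g) (1 : A₁)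
      rw [MonoidAlgebra.single_mul_single, Prod.mk_mul_mk, mul_one, one_mul, mul_one], ← hmp] at h
    have key : ∀ (p q : B) (a b : G), (mp (MonoidHom.inl G G) p * mp (MonoidHom.inr G G) q).coeff (a, b) =
        p.coeff a * q.coeff b := by
      exact coeff_inl_mul_inr
    intro a b
    rw [← key, ← h]
    show Finsupp.mapDomain _ f.coeff (a, b) = _
    split_ifs with hab
    · subst hab
      exact Finsupp.mapDomain_apply (f := (MonoidHom.id G).prod (MonoidHom.id G))
        (fun x y h => congrArg Prod.fst h) _ a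
    · refine Finsupp.mapDomain_of_notMem_range _ _ ?_
      rintro ⟨x, hx⟩
      exact hab ((congrArg Prod.fst hx).symm.trans (congrArg Prod.snd hx))
  have hsum : ∑ g : G, f.coeff g = 1 := by
    have h := hevF A₁ (AlgHom.id R A₁) 1
    rw [hr1] at h
    rw [← h]
    conv_rhs => rw [← MonoidAlgebra.sum_coeff_single f]
    rw [Finsupp.sum_fintype _ _ (fun g => by simp), map_sum]
    refine Finset.sum_congr rfl fun g _ => ?_
    rw [hev]
    simp
  -- at a geometric point exactly one coefficient survives, and it is the first one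
  have hpt : ∀ (K : Type u) [Field K] [IsAlgClosed K] [Algebra R K] (ψ : A₁ →ₐ[R] K), ψ (f.coeff 1) = 1 := by
    intro K _ _ _ ψ
    let B' := MonoidAlgebra K G
    let ι : K →* B' := ((algebraMap K B' : K →+* B') : K →* B')
    let val : (G →* K) → B' := fun a => F B' (ι.comp a) (MonoidAlgebra.of K G)
    have hex : ∀ a : G →* K, ∃ g : G, val a = single g 1 ∧ MonoidAlgebra.lift R K G a (f.coeff g) = 1 := fun a => by
      let ψ' := MonoidAlgebra.lift R K G a
      obtain ⟨g, hg⟩ : ∃ g : G, ψ' (f.coeff g) ≠ 0 := by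
        by_contra! hall
        have h := congrArg ψ' hsum
        rw [map_sum, map_one, Finset.sum_eq_zero fun g _ => hall g] at h
        exact zero_ne_one h
      have h1 : ψ' (f.coeff g) = 1 := by
        have := congrArg ψ' (hmul g g)
        rw [if_pos rfl, map_mul] at this
        exact mul_left_cancel₀ hg (this.trans (mul_one _).symm)
      refine ⟨g, ?_, h1⟩
      have h2 := hevF B' ((IsScalarTower.toAlgHom R K B').comp ψ') (MonoidAlgebra.of K G)
      rw [show ((((IsScalarTower.toAlgHom R K B').comp ψ') : A₁ →ₐ[R] B') : A₁ →* B').comp u₀ = ι.comp a from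
        MonoidHom.ext fun x => congrArg (algebraMap K B') (show ψ' (single x 1) = a x by
          rw [MonoidAlgebra.lift_single, one_smul])] at h2
      rw [show val a = _ from h2.symm]
      conv_lhs => rw [← MonoidAlgebra.sum_coeff_single f]
      rw [Finsupp.sum_fintype _ _ (fun g => by simp), map_sum, Finset.sum_eq_single g]
      · rw [hev]
        show algebraMap K B' (ψ' (f.coeff g)) * single g 1 = _
        rw [h1, map_one, one_mul]
      · intro b _ hb
        have h3 := congrArg ψ' (hmul b g)
        rw [if_neg hb, map_mul, h1, mul_one, map_zero] at h3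
        rw [hev]
        show algebraMap K B' (ψ' (f.coeff b)) * single b 1 = _
        rw [h3, map_zero, zero_mul]
      · exact fun h => absurd (Finset.mem_univ g) h
    choose J hJ hJ1 using hex
    have hinj : ∀ g g' : G, (single g 1 : B') = single g' 1 → g = g' := fun g g' h => by
      by_contra hne
      have h1 := congrArg (fun p : B' => p.coeff g) h
      simp [Ne.symm hne] at h1
    let Jh : (G →* K) →* G :=
      { toFun := J
        map_one' := hinj _ _ (by
          rw [← hJ, show val 1 = F B' (ι.comp 1) _ from rfl, MonoidHom.comp_one, hl1, MonoidAlgebra.one_def])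
        map_mul' := fun a b => hinj _ _ (by
          rw [← hJ, show single (J a * J b) (1 : K) = single (J a) 1 * single (J b) 1 by
            rw [MonoidAlgebra.single_mul_single, one_mul], ← hJ, ← hJ, ← hl]
          show F B' (ι.comp (a * b)) _ = _
          rw [show ι.comp (a * b) = ι.comp a * ι.comp b from MonoidHom.ext fun x => map_mul ι _ _]) }
    have hJd : ∀ a : G →* K, a (J a) = 1 := fun a => by
      let φ : B' →ₐ[R] K := (MonoidAlgebra.lift K K G a).restrictScalars R
      have h := congrArg φ (hJ a)
      rw [show φ (val a) = F K _ _ from hnat _ _ φ _ _] at h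
      have e1 : (φ : B' →* K).comp (ι.comp a) = a := MonoidHom.ext fun x =>
        (MonoidAlgebra.lift K K G a).commutes (a x)
      have e2 : (φ : B' →* K).comp (MonoidAlgebra.of K G) = a := MonoidHom.ext fun x => by
        show MonoidAlgebra.lift K K G a (single x 1) = a x
        rw [MonoidAlgebra.lift_single, one_smul]
      rw [e1, e2, hd] at h
      rw [h]
      show a (J a) = MonoidAlgebra.lift K K G a (single (J a) 1)
      rw [MonoidAlgebra.lift_single, one_smul]
    let a := (ψ : A₁ →* K).comp u₀
    have hψ : MonoidAlgebra.lift R K G a = ψ := MonoidAlgebra.algHom_ext (fun g => by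
      rw [MonoidAlgebra.lift_single, one_smul]; rfl) (Subsingleton.elim _ _)
    have h1 := hJ1 a
    rwa [hψ, show J a = 1 from eq_one_of_alternating Jh hJd a] at h1
  have he1 : f.coeff 1 = 1 := by
    have hu : IsUnit (f.coeff 1) := by
      by_contra hnu
      obtain ⟨p, hp, hmem⟩ := exists_max_ideal_of_mem_nonunits hnu
      let K := AlgebraicClosure p.ResidueField
      letI : Algebra R K := ((algebraMap A₁ K).comp (algebraMap R A₁)).toAlgebra
      have h := hpt K { toRingHom := algebraMap A₁ K, commutes' := fun r => rfl }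
      have h0 : algebraMap A₁ K (f.coeff 1) = 0 := by
        rw [IsScalarTower.algebraMap_apply A₁ p.ResidueField K,
          Ideal.algebraMap_residueField_eq_zero.2 hmem, map_zero]
      exact zero_ne_one (h0.symm.trans h)
    have := hmul 1 1
    rw [if_pos rfl] at this
    exact hu.mul_eq_left.1 this
  apply MonoidAlgebra.coeff_injective
  refine Finsupp.ext fun g => ?_
  rw [MonoidAlgebra.one_def, MonoidAlgebra.coeff_single, Finsupp.single_apply]
  split_ifs with hg
  · rw [← hg, he1]
  · have := hmul g 1
    rwa [if_neg (Ne.symm hg), he1, mul_one] at this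

end Groth.Agent.CommPair58
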