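import Groth.Agent.CommPair58.Pairing
import Groth.Agent.CommPair58.Roots
import Groth.Prelude.Def_Red

/-!
Central extensions of roots of unity by the multiplicative group are commutative.
-/

set_option autoImplicit false
set_option linter.style.haveILetI false
set_option backward.isDefEq.respectTransparency.types false
universe u

open CategoryTheory CategoryTheory.Limits MonoidalCategory CartesianMonoidalCategory MonObj GrpObj AlgebraicGeometry

noncomputable section

namespace Groth.Agent.CommPair58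

variable {R : Type u} [CommRing R]

theorem eq_one_of_eq_mul_self {G : Type*} [Group G] {a : G} (h : a = a * a) : a = 1 := left_eq_mul.1 h

/-- the spectrum of an algebra -/
abbrev pt (A : Type u) [CommRing A] [Algebra R A] : Over (Spec (CommRingCat.of R)) :=
  (Spec (CommRingCat.of A)).asOver (Spec (CommRingCat.of R))

variable {M : Type} [AddCommGroup M] {A B : Type u} [CommRing A] [Algebra R A] [CommRing B] [Algebra R B]

/-- the character of a point -/
def ch (x : pt (R := R) A ⟶ Red.diag R M) : Multiplicative M →* A :=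
  (((Spec.mapMulEquiv (R := R) (S := MonoidAlgebra R (Multiplicative M)) (T := A)).symm x).ofConv : _ →* A).comp
    (MonoidAlgebra.of R _)

/-- the point of a character -/
def pnt (χ : Multiplicative M →* A) : pt (R := R) A ⟶ Red.diag R M :=
  Spec.mapMulEquiv (R := R) (WithConv.toConv (MonoidAlgebra.lift R A _ χ))

theorem ch_pnt (χ : Multiplicative M →* A) : ch (pnt (R := R) χ) = χ := by
  refine MonoidHom.ext fun g => ?_
  show ((Spec.mapMulEquiv (R := R)).symm (pnt χ)).ofConv (MonoidAlgebra.single g 1) = χ g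
  rw [pnt, MulEquiv.symm_apply_apply]
  show MonoidAlgebra.lift R A _ χ (MonoidAlgebra.single g 1) = _
  rw [MonoidAlgebra.lift_single, one_smul]

theorem pnt_ch (x : pt (R := R) A ⟶ Red.diag R M) : pnt (ch x) = x := by
  apply (Spec.mapMulEquiv (R := R) (S := MonoidAlgebra R (Multiplicative M)) (T := A)).symm.injective
  rw [pnt, MulEquiv.symm_apply_apply]
  apply WithConv.ofConv_injective
  refine MonoidAlgebra.algHom_ext (fun g => ?_) (Subsingleton.elim _ _)
  show MonoidAlgebra.lift R A _ (ch x) (MonoidAlgebra.single g 1) = _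
  rw [MonoidAlgebra.lift_single, one_smul]
  rfl

theorem ch_mul (x y : pt (R := R) A ⟶ Red.diag R M) : ch (x * y) = ch x * ch y := by
  refine MonoidHom.ext fun g => ?_
  show ((Spec.mapMulEquiv (R := R)).symm (x * y)).ofConv (MonoidAlgebra.single g 1) = _
  rw [map_mul, AlgHom.convMul_def]
  simp [ch]

theorem pnt_mul (χ χ' : Multiplicative M →* A) : pnt (R := R) (χ * χ') = pnt χ * pnt χ' := by
  rw [← pnt_ch (pnt (R := R) χ * pnt χ'), ch_mul, ch_pnt, ch_pnt]

theorem pnt_one : pnt (R := R) (1 : Multiplicative M →* A) = 1 := by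
  have h := pnt_mul (R := R) (1 : Multiplicative M →* A) 1
  rw [_root_.mul_one] at h
  exact eq_one_of_eq_mul_self h

theorem ch_one : ch (1 : pt (R := R) A ⟶ Red.diag R M) = 1 := by rw [← pnt_one, ch_pnt]

/-- the morphism of an algebra map -/
def ptMap (φ : A →ₐ[R] B) : pt (R := R) B ⟶ pt (R := R) A :=
  (Spec.map (CommRingCat.ofHom φ.toRingHom)).asOver _

theorem comp_pnt (φ : A →ₐ[R] B) (χ : Multiplicative M →* A) :
    ptMap φ ≫ pnt χ = pnt ((φ : A →* B).comp χ) := by
  apply Over.OverMorphism.ext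
  show Spec.map _ ≫ Spec.map _ = Spec.map _
  rw [← Spec.map_comp, ← CommRingCat.ofHom_comp]
  congr 2
  refine MonoidAlgebra.ringHom_ext (fun r => ?_) (fun g => ?_)
  · simp
  · simp [MonoidAlgebra.lift_single]

theorem ch_comp (φ : A →ₐ[R] B) (x : pt (R := R) A ⟶ Red.diag R M) :
    ch (ptMap φ ≫ x) = (φ : A →* B).comp (ch x) := by
  conv_lhs => rw [← pnt_ch x, comp_pnt, ch_pnt]

/-- An affine object is the spectrum of an algebra. -/
theorem exists_iso_pt (T : Over (Spec (CommRingCat.of R))) [IsAffine T.left] :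
    ∃ (A : Type u) (_ : CommRing A) (_ : Algebra R A), Nonempty (pt (R := R) A ≅ T) := by
  let φ : CommRingCat.of R ⟶ Γ(T.left, ⊤) := (Scheme.ΓSpecIso (CommRingCat.of R)).inv ≫ T.hom.appTop
  letI : Algebra R Γ(T.left, ⊤) := φ.hom.toAlgebra
  refine ⟨Γ(T.left, ⊤), inferInstance, inferInstance, ⟨(Over.isoMk T.left.isoSpec ?_).symm⟩⟩
  show T.left.toSpecΓ ≫ Spec.map φ = T.hom
  rw [Spec.map_comp, ← Category.assoc, ← Scheme.toSpecΓ_naturality, Category.assoc, ← SpecMap_ΓSpecIso_hom,
    ← Spec.map_comp, Iso.inv_hom_id, Spec.map_id, Category.comp_id]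

/-- A central extension of the roots of unity by the multiplicative group is commutative. -/
theorem comm_of_centralExtension_mu {n : ℕ} [NeZero n] (E : Over (Spec (CommRingCat.of R))) [GrpObj E]
    (i : Red.diag R ℤ ⟶ E) [IsMonHom i] (q : E ⟶ Red.diag R (ZMod n)) [IsMonHom q]
    (hker : AlgGrp.IsKernel i q) (hq : AlgGrp79.IsCov q)
    (hcent : ∀ (T : Over (Spec (CommRingCat.of R))) (g : T ⟶ E) (t : T ⟶ Red.diag R ℤ),
      g * (t ≫ i) = (t ≫ i) * g)
    (T : Over (Spec (CommRingCat.of R))) (g h : T ⟶ E) : g * h = h * g := by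
  obtain ⟨c, key, hl, hr, hd⟩ := exists_pairing i q hq hker hcent
  suffices hc : c = 1 by
    have h1 := key T g h
    rw [hc, MonObj.comp_one, MonObj.one_comp] at h1
    rwa [mul_inv_eq_one, mul_inv_eq_iff_eq_mul] at h1
  let F : ∀ (A : Type u) [CommRing A] [Algebra R A], (Multiplicative (ZMod n) →* A) →
      (Multiplicative (ZMod n) →* A) → A :=
    fun A _ _ x y => ch (lift (pnt (R := R) x) (pnt y) ≫ c) (Multiplicative.ofAdd 1)
  have hone : ∀ {T : Over (Spec (CommRingCat.of R))} (b : T ⟶ Red.diag R (ZMod n)),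
      lift 1 b ≫ c = 1 ∧ lift b 1 ≫ c = 1 := fun b => by
    constructor
    · have h1 := hl _ 1 1 b
      rw [_root_.mul_one] at h1
      exact eq_one_of_eq_mul_self h1
    · have h1 := hr _ b 1 1
      rw [_root_.mul_one] at h1
      exact eq_one_of_eq_mul_self h1
  have hF : ∀ (A : Type u) [CommRing A] [Algebra R A] (x y : Multiplicative (ZMod n) →* A), F A x y = 1 :=
    pairing_eq_one F
      (fun A B _ _ _ _ φ x y => by
        show φ (ch (_ ≫ c) _) = ch (_ ≫ c) _
        rw [← comp_pnt, ← comp_pnt, ← comp_lift, Category.assoc, ch_comp]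
        rfl)
      (fun A _ _ x x' y => by
        show ch _ _ = ch _ _ * ch _ _
        rw [pnt_mul, hl, ch_mul]; rfl)
      (fun A _ _ x y y' => by
        show ch _ _ = ch _ _ * ch _ _
        rw [pnt_mul, hr, ch_mul]; rfl)
      (fun A _ _ y => by
        show ch _ _ = 1
        rw [pnt_one, (hone _).1, ch_one]; rfl)
      (fun A _ _ x => by
        show ch _ _ = 1
        rw [pnt_one, (hone _).2, ch_one]; rfl)
      (fun A _ _ x => by
        show ch _ _ = 1
        rw [hd, ch_one]; rfl)
  haveI : IsAffine (Red.diag R (ZMod n)).left := inferInstanceAs (IsAffine (Spec _))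
  haveI : IsAffine (Red.diag R (ZMod n) ⊗ Red.diag R (ZMod n)).left := inferInstanceAs (IsAffine (pullback _ _))
  obtain ⟨A, _, _, ⟨e⟩⟩ := exists_iso_pt (Red.diag R (ZMod n) ⊗ Red.diag R (ZMod n))
  rw [← cancel_epi e.hom, MonObj.comp_one, ← pnt_ch (e.hom ≫ c), ← pnt_one]
  congr 1
  refine MonoidHom.ext_mint ?_
  have h := hF A (ch (e.hom ≫ fst _ _)) (ch (e.hom ≫ snd _ _))
  simp only [F, pnt_ch] at h
  rw [show e.hom = lift (e.hom ≫ fst _ _) (e.hom ≫ snd _ _) by ext : 1 <;> simp]
  exact h

end Groth.Agent.CommPair58
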