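import Groth.Agent.AlgGrp79.Cover
import Groth.Agent.AlgGrp79.KernelPts

/-!
The commutator pairing of a central extension of a commutative group.
-/

set_option autoImplicit false
set_option linter.style.haveILetI false
universe u

open CategoryTheory CategoryTheory.Limits MonoidalCategory CartesianMonoidalCategory MonObj GrpObj AlgebraicGeometry

noncomputable section

namespace Groth.Agent.CommPair58

open AlgGrp79

variable {S : Scheme.{u}} {C E Q : Over S} [GrpObj C] [GrpObj E] [GrpObj Q] (i : C ⟶ E) [IsMonHom i]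
  (q : E ⟶ Q) [IsMonHom q]

/-- group identities for a central element -/
theorem comm_mul_left {G : Type*} [Group G] {g g' h x y : G} (hx : g * h * g⁻¹ * h⁻¹ = x)
    (hy : g' * h * g'⁻¹ * h⁻¹ = y) (hyc : ∀ z : G, z * y = y * z) :
    g * g' * h * (g * g')⁻¹ * h⁻¹ = x * y :=
  calc g * g' * h * (g * g')⁻¹ * h⁻¹ = g * (g' * h * g'⁻¹ * h⁻¹) * (h * g⁻¹ * h⁻¹) := by group
    _ = (g * h * g⁻¹ * h⁻¹) * y := by rw [hy, mul_assoc g, ← hyc (h * g⁻¹ * h⁻¹)]; group
    _ = x * y := by rw [hx]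

/-- group identities for a central element -/
theorem comm_mul_right {G : Type*} [Group G] {g h h' x y : G} (hx : g * h * g⁻¹ * h⁻¹ = x)
    (hy : g * h' * g⁻¹ * h'⁻¹ = y) (hyc : ∀ z : G, z * y = y * z) :
    g * (h * h') * g⁻¹ * (h * h')⁻¹ = x * y :=
  calc g * (h * h') * g⁻¹ * (h * h')⁻¹ = g * h * g⁻¹ * (g * h' * g⁻¹ * h'⁻¹) * h⁻¹ := by group
    _ = (g * h * g⁻¹ * h⁻¹) * y := by rw [hy, mul_assoc _ y h⁻¹, ← hyc h⁻¹]; group
    _ = x * y := by rw [hx]

/-- The commutator of two points of a central extension of a commutative group depends only on their images, and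
defines a pairing of the quotient which is multiplicative in both variables and trivial on the diagonal. -/
theorem exists_pairing [IsCommMonObj Q] (hq : IsCov q) (hker : AlgGrp.IsKernel i q)
    (hcent : ∀ (T : Over S) (g : T ⟶ E) (t : T ⟶ C), g * (t ≫ i) = (t ≫ i) * g) :
    ∃ c : Q ⊗ Q ⟶ C,
      (∀ (T : Over S) (g h : T ⟶ E), g * h * g⁻¹ * h⁻¹ = (lift (g ≫ q) (h ≫ q) ≫ c) ≫ i) ∧
      (∀ (T : Over S) (a a' b : T ⟶ Q), lift (a * a') b ≫ c = (lift a b ≫ c) * (lift a' b ≫ c)) ∧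
      (∀ (T : Over S) (a b b' : T ⟶ Q), lift a (b * b') ≫ c = (lift a b ≫ c) * (lift a b' ≫ c)) ∧
      (∀ (T : Over S) (a : T ⟶ Q), lift a a ≫ c = 1) := by
  haveI : Mono i := mono_of_isKernel hker
  let κ : ∀ {T : Over S}, (T ⟶ E) → (T ⟶ E) → (T ⟶ E) := fun g h => g * h * g⁻¹ * h⁻¹
  have hκ : ∀ {T T' : Over S} (φ : T' ⟶ T) (g h : T ⟶ E), φ ≫ κ g h = κ (φ ≫ g) (φ ≫ h) := fun φ g h => by
    simp only [κ, MonObj.comp_mul, GrpObj.comp_inv]
  obtain ⟨φ, hφ⟩ := exists_ker_of_comp_one hker (κ (fst E E) (snd E E)) (by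
    simp only [κ, MonObj.mul_comp, GrpObj.inv_comp]
    rw [mul_comm (fst E E ≫ q), mul_inv_cancel_right, mul_inv_cancel])
  have hqq : IsCov (q ⊗ₘ q) := by
    rw [MonoidalCategory.tensorHom_def]
    exact (hq.whiskerRight _).comp (hq.whiskerLeft _)
  obtain ⟨c, hc⟩ := hqq.desc φ (fun T a b hab => by
    rw [← cancel_mono i, Category.assoc, Category.assoc, hφ, hκ, hκ]
    have h1 : (a ≫ fst E E) ≫ q = (b ≫ fst E E) ≫ q := by
      simpa [Category.assoc] using congrArg (· ≫ fst Q Q) hab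
    have h2 : (a ≫ snd E E) ≫ q = (b ≫ snd E E) ≫ q := by
      simpa [Category.assoc] using congrArg (· ≫ snd Q Q) hab
    obtain ⟨s, hs⟩ := exists_ker_of_comp_eq q i hker _ _ h1
    obtain ⟨t, ht⟩ := exists_ker_of_comp_eq q i hker _ _ h2
    rw [inv_mul_eq_iff_eq_mul] at hs ht
    rw [hs, ht]
    simp only [κ]
    generalize a ≫ fst E E = g
    generalize a ≫ snd E E = h
    have hsc := fun z => hcent T z s
    have htc := fun z => hcent T z t
    generalize s ≫ i = x at hsc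
    generalize t ≫ i = y at htc
    symm
    calc g * x * (h * y) * (g * x)⁻¹ * (h * y)⁻¹
        = g * (x * h) * (y * x⁻¹) * g⁻¹ * y⁻¹ * h⁻¹ := by group
      _ = g * (h * x) * (x⁻¹ * y) * g⁻¹ * y⁻¹ * h⁻¹ := by
          rw [← hsc h, htc x⁻¹]
      _ = g * h * (y * g⁻¹) * y⁻¹ * h⁻¹ := by group
      _ = g * h * (g⁻¹ * y) * y⁻¹ * h⁻¹ := by rw [← htc g⁻¹]
      _ = g * h * g⁻¹ * h⁻¹ := by group)
  have key : ∀ (T : Over S) (g h : T ⟶ E), g * h * g⁻¹ * h⁻¹ = (lift (g ≫ q) (h ≫ q) ≫ c) ≫ i := fun T g h => by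
    rw [← lift_map, Category.assoc, Category.assoc, ← Category.assoc _ c i, hc, hφ, hκ, lift_fst, lift_snd]
  refine ⟨c, key, fun T a a' b => ?_, fun T a b b' => ?_, fun T a => ?_⟩
  · obtain ⟨T₁, p₁, g, hp₁, hg⟩ := hq.exists_lift a
    obtain ⟨T₂, p₂, g', hp₂, hg'⟩ := hq.exists_lift (p₁ ≫ a')
    obtain ⟨T₃, p₃, h, hp₃, hh⟩ := hq.exists_lift (p₂ ≫ p₁ ≫ b)
    haveI := ((hp₃.comp hp₂).comp hp₁).epi
    rw [← cancel_epi ((p₃ ≫ p₂) ≫ p₁), ← cancel_mono i]
    simp only [MonObj.comp_mul, MonObj.mul_comp, comp_lift_assoc, Category.assoc]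
    rw [← hh, ← hg', ← hg, ← Category.assoc p₃ g' q, ← Category.assoc p₂ g q, ← Category.assoc p₃ (p₂ ≫ g) q,
      ← MonObj.mul_comp]
    simp only [← Category.assoc (lift _ _) c i]
    rw [← key, ← key, ← key]
    exact comm_mul_left rfl rfl fun z => by rw [key]; exact hcent _ _ _
  · obtain ⟨T₁, p₁, g, hp₁, hg⟩ := hq.exists_lift a
    obtain ⟨T₂, p₂, h, hp₂, hh⟩ := hq.exists_lift (p₁ ≫ b)
    obtain ⟨T₃, p₃, h', hp₃, hh'⟩ := hq.exists_lift (p₂ ≫ p₁ ≫ b')
    haveI := ((hp₃.comp hp₂).comp hp₁).epi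
    rw [← cancel_epi ((p₃ ≫ p₂) ≫ p₁), ← cancel_mono i]
    simp only [MonObj.comp_mul, MonObj.mul_comp, comp_lift_assoc, Category.assoc]
    rw [← hh', ← hh, ← hg, ← Category.assoc p₃ h q, ← Category.assoc p₂ g q, ← Category.assoc p₃ (p₂ ≫ g) q,
      ← MonObj.mul_comp]
    simp only [← Category.assoc (lift _ _) c i]
    rw [← key, ← key, ← key]
    exact comm_mul_right rfl rfl fun z => by rw [key]; exact hcent _ _ _
  · obtain ⟨T₁, p₁, g, hp₁, hg⟩ := hq.exists_lift a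
    haveI := hp₁.epi
    rw [← cancel_epi p₁, ← cancel_mono i, comp_lift_assoc, ← hg, MonObj.comp_one, MonObj.one_comp, ← key]
    group

end Groth.Agent.CommPair58
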