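import Groth.Prelude.Def_NonAbH2
import Mathlib.AlgebraicGeometry.Morphisms.LocalFlatDescent
import Mathlib.AlgebraicGeometry.Morphisms.Smooth

/-!
The projection of an fppf extension by a smooth group is smooth; smooth morphisms to the spectrum of a ring
have sections lifting points modulo nilpotents.
-/

set_option autoImplicit false
set_option backward.isDefEq.respectTransparency.types false
set_option linter.style.haveILetI false
universe u

open CategoryTheory CategoryTheory.Limits MonoidalCategory CartesianMonoidalCategory MonObj AlgebraicGeometry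

noncomputable section

namespace Groth.Agent.CommPair58

variable {S : Scheme.{u}} {P E G : Over S}

/-- The projection of an fppf exact sequence with smooth kernel is smooth and surjective. -/
theorem smooth_of_exact [GrpObj P] [GrpObj E] [GrpObj G] {u : G ⟶ E} {v : E ⟶ P}
    (hex : NonAbH1.IsExactSeq Scheme.fppfPrecoverage u v) [Smooth G.hom] : Smooth v.left ∧ Surjective v.left := by
  obtain ⟨R, hR, hsec⟩ := hex.2.2.2.2
  have hR' := hR
  change R ∈ Scheme.fppfPrecoverage P.left at hR'
  rw [Scheme.fppfPrecoverage_eq_inf] at hR'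
  obtain ⟨hflat, hlfp⟩ := hR'
  have hcov : ∀ x : P.left, ∃ (W : Scheme.{u}) (f : W ⟶ P.left), R f ∧ x ∈ Set.range f := by
    intro x
    obtain ⟨W, f, hf, hx⟩ := Types.mem_jointlySurjectivePrecoverage_iff.1 hflat.1 x
    obtain ⟨hf⟩ := hf
    exact ⟨_, _, hf, hx⟩
  choose W f hRf hx using hcov
  choose s hs using fun x => hsec (f x) (hRf x)
  let b : ∐ W ⟶ P.left := Sigma.desc f
  let t : ∐ W ⟶ E.left := Sigma.desc s
  have htb : t ≫ v.left = b := by
    refine Sigma.hom_ext _ _ fun x => ?_
    simp only [b, t, Sigma.ι_desc_assoc, Sigma.ι_desc]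
    exact hs x
  have hb1 : Surjective b := ⟨fun x => by
    obtain ⟨w, hw⟩ := hx x
    exact ⟨Sigma.ι W x w, by rw [← Scheme.Hom.comp_apply, Sigma.ι_desc, hw]⟩⟩
  have hb2 : Flat b := IsZariskiLocalAtSource.sigmaDesc fun x => hflat.2 (hRf x)
  have hb3 : LocallyOfFinitePresentation b := IsZariskiLocalAtSource.sigmaDesc fun x => hlfp.2 (hRf x)
  let T : Over S := Over.mk (b ≫ P.hom)
  let tT : T ⟶ E := Over.homMk t (by show t ≫ E.hom = b ≫ P.hom; rw [← Over.w v, reassoc_of% htb])
  let bT : T ⟶ P := Over.homMk b rfl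
  have hbT : tT ≫ v = bT := Over.OverMorphism.ext htb
  have h1 : IsPullback (tT ▷ G) (fst T G) (fst E G) tT :=
    ⟨⟨by simp⟩, ⟨PullbackCone.IsLimit.mk _ (fun c => lift c.snd (c.fst ≫ snd E G))
      (fun c => by ext <;> simp [c.condition])
      (fun c => by simp)
      (fun c m e1 e2 => by
        refine CartesianMonoidalCategory.hom_ext _ _ ?_ ?_
        · simpa using e2
        · simpa using congrArg (· ≫ snd E G) e1)⟩⟩
  have h2 := IsPullback.paste_horiz h1 hex.2.2.2.1.flip
  rw [hbT] at h2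
  have h3 : IsPullback (((tT ▷ G) ≫ (E ◁ u) ≫ μ[E]).left) (fst T G).left v.left bT.left :=
    h2.map (Over.forget S)
  have h4 : Smooth (fst T G).left := MorphismProperty.pullback_fst (P := @Smooth) T.hom G.hom inferInstance
  have he : Smooth v.left :=
    MorphismProperty.of_isPullback_of_descendsAlong
      (Q := @Surjective ⊓ @Flat ⊓ @LocallyOfFinitePresentation) h3.flip ⟨⟨hb1, hb2⟩, hb3⟩ h4
  exact ⟨he, ⟨fun x => by
    obtain ⟨w, hw⟩ := hb1.surj x
    exact ⟨t w, by rw [← Scheme.Hom.comp_apply, htb, hw]⟩⟩⟩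

/-- A smooth morphism to an affine scheme has a section through a given point modulo a nilpotent ideal. -/
theorem exists_section_of_smooth {X : Scheme.{u}} {B L : Type u} [CommRing B] [Field L]
    (v : X ⟶ Spec (CommRingCat.of B)) [Smooth v] (π : B →+* L) (hπ : Function.Surjective π)
    (hnil : IsNilpotent (RingHom.ker π)) (x : Spec (CommRingCat.of L) ⟶ X)
    (hx : x ≫ v = Spec.map (CommRingCat.ofHom π)) :
    ∃ s : Spec (CommRingCat.of B) ⟶ X, s ≫ v = 𝟙 _ ∧ Spec.map (CommRingCat.ofHom π) ≫ s = x := by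
  obtain ⟨_, ⟨U, hU, rfl⟩, hxU, -⟩ :=
    X.isBasis_affineOpens.exists_subset_of_mem_open (Set.mem_univ (x default)) isOpen_univ
  have hU : IsAffineOpen U := hU
  let j : Spec Γ(X, U) ⟶ X := hU.fromSpec
  have hr : Set.range x ⊆ Set.range j := by
    rintro _ ⟨z, rfl⟩
    rw [hU.range_fromSpec, Subsingleton.elim (α := ↥(Spec (CommRingCat.of L))) z default]
    exact hxU
  let x' := IsOpenImmersion.lift j x hr
  obtain ⟨θ, hθ⟩ := Spec.map_surjective (j ≫ v)
  obtain ⟨ξ, hξ⟩ := Spec.map_surjective x'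
  have hsm : Smooth (Spec.map θ) := by rw [hθ]; infer_instance
  rw [HasRingHomProperty.Spec_iff (P := @Smooth)] at hsm
  letI : Algebra B Γ(X, U) := θ.hom.toAlgebra
  haveI : Algebra.Smooth B Γ(X, U) := hsm
  have hcomp : θ ≫ ξ = CommRingCat.ofHom π := by
    apply Spec.map_injective
    rw [Spec.map_comp, hξ, hθ, IsOpenImmersion.lift_fac_assoc, hx]
  letI : Algebra B L := π.toAlgebra
  let g : Γ(X, U) →ₐ[B] L :=
    { toRingHom := ξ.hom
      commutes' := fun b => congr($hcomp b) }
  let σ := Algebra.FormallySmooth.liftOfSurjective g (Algebra.ofId B L) hπ hnil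
  refine ⟨Spec.map (CommRingCat.ofHom σ.toRingHom) ≫ j, ?_, ?_⟩
  · rw [Category.assoc, ← hθ, ← Spec.map_comp, ← Spec.map_id]
    congr 1
    ext b
    exact σ.commutes b
  · rw [← IsOpenImmersion.lift_fac j x hr, ← Category.assoc, ← Spec.map_comp]
    show _ = x' ≫ j
    rw [← hξ]
    congr 2
    ext a
    exact Algebra.FormallySmooth.liftOfSurjective_apply g (Algebra.ofId B L) hπ hnil a

end Groth.Agent.CommPair58
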