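import Groth.Agent.CommPair58.Diag
import Groth.Agent.CommPair58.Alpha
import Groth.Agent.CommPair58.Torsor
import Groth.Agent.ExtGrp38.Kernel
import Groth.Agent.FinHopf34.Classify
import Mathlib.RingTheory.Unramified.Field

/-!
Theta groups over finite groups of prime order over an algebraically closed field are commutative.
-/

set_option autoImplicit false
set_option backward.isDefEq.respectTransparency.types false
set_option linter.style.haveILetI false
universe u

open CategoryTheory CategoryTheory.Limits MonoidalCategory CartesianMonoidalCategory MonObj GrpObj AlgebraicGeometry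
open TrivSqZeroExt WithConv
open scoped DualNumber TensorProduct

noncomputable section

namespace Groth.Agent.CommPair58

variable {k : Type u} [Field k]

theorem commute_dn {R : Type*} [CommRing R] (x y : R) : Commute x y := mul_comm x y

section Points

variable {A : Type u} [CommRing A] [HopfAlgebra k A]

theorem convMul_groupLike {B : Type u} [CommRing B] [Algebra k B] {a : A} (ha : IsGroupLikeElem k a)
    (f g : WithConv (A →ₐ[k] B)) : (f * g).ofConv a = f.ofConv a * g.ofConv a := by
  simp [AlgHom.convMul_apply, ha.comul_eq_tmul_self]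

theorem convMul_prim {B : Type u} [CommRing B] [Algebra k B] {a : A}
    (ha : CoalgebraStruct.comul (R := k) a = a ⊗ₜ[k] 1 + 1 ⊗ₜ[k] a) (f g : WithConv (A →ₐ[k] B)) :
    (f * g).ofConv a = f.ofConv a + g.ofConv a := by
  simp [AlgHom.convMul_apply, ha]

end Points

/-- the swap of the two infinitesimals -/
def swapEps : (k[ε])[ε] →ₐ[k] (k[ε])[ε] :=
  DualNumber.lift ⟨(DualNumber.lift ⟨(Algebra.ofId k (k[ε])[ε], DualNumber.eps),
    DualNumber.eps_mul_eps, fun _ => commute_dn (R := (k[ε])[ε]) _ _⟩, inl DualNumber.eps),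
    by rw [inl_mul_inl, DualNumber.eps_mul_eps, inl_zero], fun _ => commute_dn (R := (k[ε])[ε]) _ _⟩

/-- the two tangent vectors -/
def eps1 : k[ε] →ₐ[k] (k[ε])[ε] :=
  DualNumber.lift ⟨(Algebra.ofId k (k[ε])[ε], inl DualNumber.eps),
    by rw [inl_mul_inl, DualNumber.eps_mul_eps, inl_zero], fun _ => commute_dn (R := (k[ε])[ε]) _ _⟩

/-- the two tangent vectors -/
def eps2 : k[ε] →ₐ[k] (k[ε])[ε] :=
  DualNumber.lift ⟨(Algebra.ofId k (k[ε])[ε], DualNumber.eps), DualNumber.eps_mul_eps, fun _ => commute_dn (R := (k[ε])[ε]) _ _⟩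

/-- forget the second infinitesimal -/
def red1 : (k[ε])[ε] →ₐ[k] k[ε] := fstHom k k[ε] k[ε]

/-- forget the first infinitesimal -/
def red2 : (k[ε])[ε] →ₐ[k] k[ε] :=
  DualNumber.lift ⟨((Algebra.ofId k k[ε]).comp (fstHom k k k), DualNumber.eps),
    DualNumber.eps_mul_eps, fun _ => commute_dn (R := k[ε]) _ _⟩

theorem swapEps_comp_eps1 : (swapEps (k := k)).comp eps1 = eps2 :=
  DualNumber.algHom_ext (by simp [swapEps, eps1, eps2])

theorem swapEps_comp_eps2 : (swapEps (k := k)).comp eps2 = eps1 :=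
  DualNumber.algHom_ext (by simp [swapEps, eps1, eps2])

theorem red1_comp_eps1 : (red1 (k := k)).comp eps1 = AlgHom.id k _ :=
  DualNumber.algHom_ext (by simp [red1, eps1])

theorem red1_comp_eps2 : (red1 (k := k)).comp eps2 = (Algebra.ofId k k[ε]).comp (fstHom k k k) :=
  DualNumber.algHom_ext (by simp [red1, eps2])

theorem red2_comp_eps1 : (red2 (k := k)).comp eps1 = (Algebra.ofId k k[ε]).comp (fstHom k k k) :=
  DualNumber.algHom_ext (by simp [red2, eps1])

theorem red2_comp_eps2 : (red2 (k := k)).comp eps2 = AlgHom.id k _ :=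
  DualNumber.algHom_ext (by simp [red2, eps2])

theorem swapEps_fixed (z : (k[ε])[ε]) (h1 : red1 z = 1) (h2 : red2 z = 1) : swapEps z = z := by
  have ha : fst z = 1 := by simpa [red1] using h1
  have hb : fst (snd z) = 0 := by
    have := congrArg snd h2
    simpa [red2, DualNumber.lift_apply_apply, Algebra.ofId_apply, TrivSqZeroExt.algebraMap_eq_inl] using this
  simp only [swapEps, DualNumber.lift_apply_apply]
  refine TrivSqZeroExt.ext (TrivSqZeroExt.ext ?_ ?_) (TrivSqZeroExt.ext ?_ ?_) <;>
    simp [DualNumber.lift_apply_apply, Algebra.ofId_apply, TrivSqZeroExt.algebraMap_eq_inl, TrivSqZeroExt.algebraMap_eq_inl', ha, hb]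

/-- A natural pairing of the points of a group of prime order with values in the multiplicative group. -/
structure PairData (A : Type u) [CommRing A] [HopfAlgebra k A] where
  /-- the values -/
  F : ∀ (B : Type u) [CommRing B] [Algebra k B], WithConv (A →ₐ[k] B) → WithConv (A →ₐ[k] B) → B
  nat : ∀ (B C : Type u) [CommRing B] [Algebra k B] [CommRing C] [Algebra k C] (φ : B →ₐ[k] C)
    (f g : WithConv (A →ₐ[k] B)), φ (F B f g) = F C (toConv (φ.comp f.ofConv)) (toConv (φ.comp g.ofConv))
  mul_left : ∀ (B : Type u) [CommRing B] [Algebra k B] (f f' g : WithConv (A →ₐ[k] B)),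
    F B (f * f') g = F B f g * F B f' g
  mul_right : ∀ (B : Type u) [CommRing B] [Algebra k B] (f g g' : WithConv (A →ₐ[k] B)),
    F B f (g * g') = F B f g * F B f g'
  one_left : ∀ (B : Type u) [CommRing B] [Algebra k B] (g : WithConv (A →ₐ[k] B)), F B 1 g = 1
  one_right : ∀ (B : Type u) [CommRing B] [Algebra k B] (f : WithConv (A →ₐ[k] B)), F B f 1 = 1
  diag : ∀ (B : Type u) [CommRing B] [Algebra k B] (f : WithConv (A →ₐ[k] B)), F B f f = 1
  tangent : IsLocalRing A → ∀ (D R₂ : Type u) [CommRing D] [Algebra k D] [CommRing R₂] [Algebra k R₂]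
    (p₀ : D →ₐ[k] k) (e₁ e₂ : D →ₐ[k] R₂) (σ : R₂ →ₐ[k] R₂) (r₁ r₂ : R₂ →ₐ[k] D), σ.comp e₁ = e₂ → σ.comp e₂ = e₁ →
    r₁.comp e₁ = AlgHom.id k D → r₁.comp e₂ = (Algebra.ofId k D).comp p₀ →
    r₂.comp e₁ = (Algebra.ofId k D).comp p₀ → r₂.comp e₂ = AlgHom.id k D →
    (∀ z, r₁ z = 1 → r₂ z = 1 → σ z = z) →
    ∀ f : A →ₐ[k] D, p₀.comp f = Bialgebra.counitAlgHom k A →
    F R₂ (toConv (e₁.comp f)) (toConv (e₂.comp f)) = 1

namespace PairData

variable {A : Type u} [CommRing A] [HopfAlgebra k A] (P : PairData (k := k) A) [IsAlgClosed k] [Module.Finite k A]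

theorem eq_one_of_isReduced [IsReduced A] (ℓ : ℕ) (hℓ : ℓ.Prime) (hA : Module.finrank k A = ℓ)
    (B : Type u) [CommRing B] [Algebra k B] (f g : WithConv (A →ₐ[k] B)) : P.F B f g = 1 := by
  haveI : Fact ℓ.Prime := ⟨hℓ⟩
  have hcard : Nat.card (WithConv (A →ₐ[k] k)) = ℓ := by
    rw [Nat.card_congr (WithConv.equiv (A →ₐ[k] k)), Hopf35.EtaleDual.card_points_of_isReduced, hA]
  haveI : Algebra.Etale k A := Hopf35.EtaleDual.etale_of_card_points (K := k) (B := A)
    (by rw [Hopf35.EtaleDual.card_points_of_isReduced])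
  haveI : Algebra.FormallyUnramified k (A ⊗[k] A) := Algebra.FormallyUnramified.comp k A (A ⊗[k] A)
  haveI : IsReduced (A ⊗[k] A) := Algebra.FormallyUnramified.isReduced_of_field k (A ⊗[k] A)
  haveI : IsCyclic (WithConv (A →ₐ[k] k)) := isCyclic_of_prime_card (p := ℓ) hcard
  obtain ⟨x, hx⟩ := IsCyclic.exists_zpow_surjective (G := WithConv (A →ₐ[k] k))
  haveI : Finite (WithConv (A →ₐ[k] k)) := Nat.finite_of_card_ne_zero (by rw [hcard]; exact hℓ.ne_zero)
  have hpts : ∀ a b : WithConv (A →ₐ[k] k), P.F k a b = 1 := by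
    have hxi : ∀ b, b ∈ Submonoid.powers x := fun b => mem_powers_iff_mem_zpowers.2 (hx b)
    have h2 : ∀ j : ℕ, P.F k x (x ^ j) = 1 := fun j => by
      induction j with
      | zero => rw [pow_zero, P.one_right]
      | succ j ih => rw [pow_succ, P.mul_right, ih, P.diag, _root_.one_mul]
    intro a b
    obtain ⟨i, rfl⟩ := hxi a
    obtain ⟨j, rfl⟩ := hxi b
    induction i with
    | zero => simp only [pow_zero]; exact P.one_left k _
    | succ i ih =>
      simp only [pow_succ, P.mul_left] at ih ⊢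
      rw [ih, h2, _root_.one_mul]
  let z : A ⊗[k] A := P.F (A ⊗[k] A) (toConv Algebra.TensorProduct.includeLeft) (toConv Algebra.TensorProduct.includeRight)
  have hz : z = 1 := by
    refine sub_eq_zero.1 (Comod33.FinGrp.isNilpotent_of_forall (k := k) fun ψ => ?_).eq_zero
    rw [map_sub, map_one, P.nat, hpts, sub_self]
  have h := P.nat _ B (Algebra.TensorProduct.lift f.ofConv g.ofConv fun _ _ => Commute.all _ _)
    (toConv Algebra.TensorProduct.includeLeft) (toConv Algebra.TensorProduct.includeRight)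
  rw [show P.F (A ⊗[k] A) _ _ = 1 from hz, map_one] at h
  refine Eq.trans ?_ h.symm
  · congr 1
    · exact WithConv.ofConv_injective (AlgHom.ext fun a => by simp)
    · exact WithConv.ofConv_injective (AlgHom.ext fun a => by simp)

theorem eq_one (ℓ : ℕ) (hℓ : ℓ.Prime) (hA : Module.finrank k A = ℓ)
    (B : Type u) [CommRing B] [Algebra k B] (f g : WithConv (A →ₐ[k] B)) : P.F B f g = 1 := by
  haveI : Fact ℓ.Prime := ⟨hℓ⟩
  rcases Hopf35.Prime.isLocalRing_or_card (k := k) (A := A) hℓ hA with hloc | hcard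
  swap
  · haveI := FinHopf34.isReduced_of_card (k := k) (A := A) (hcard.trans hA.symm)
    exact P.eq_one_of_isReduced ℓ hℓ hA B f g
  haveI := hloc
  haveI : CharP k ℓ := (Hopf35.Prime.exists_local_data (k := k) (A := A) hℓ hA).1
  rcases FinHopf34.classify (k := k) (A := A) ℓ hA with ⟨⟨E⟩⟩ | ⟨⟨E⟩⟩ | ⟨⟨E⟩⟩
  · haveI : IsReduced A := isReduced_of_injective ((ConstGrp.equivFun k (Multiplicative (ZMod ℓ))).toAlgHom.comp E.toAlgEquiv.toAlgHom) ((ConstGrp.equivFun k _).injective.comp E.toAlgEquiv.injective)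
    exact P.eq_one_of_isReduced ℓ hℓ hA B f g
  · -- roots of unity
    let pt' : ∀ (B : Type u) [CommRing B] [Algebra k B],
        (Multiplicative (ZMod ℓ) →* B) → WithConv (A →ₐ[k] B) :=
      fun B _ _ χ => toConv ((MonoidAlgebra.lift k B _ χ).comp E.toAlgEquiv.toAlgHom)
    let gen : Multiplicative (ZMod ℓ) → A := fun m => E.symm (MonoidAlgebra.single m 1)
    have hgen : ∀ m, IsGroupLikeElem k (gen m) := fun m =>
      (show IsGroupLikeElem k (MonoidAlgebra.single m (1 : k)) from MonoidAlgebra.isGroupLikeElem_of m).map E.symm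
    have hext : ∀ (B : Type u) [CommRing B] [Algebra k B] (a b : WithConv (A →ₐ[k] B)),
        (∀ m, a.ofConv (gen m) = b.ofConv (gen m)) → a = b := fun B _ _ a b h => by
      apply WithConv.ofConv_injective
      have := MonoidAlgebra.algHom_ext (R := k) (φ₁ := a.ofConv.comp E.toAlgEquiv.symm.toAlgHom)
        (φ₂ := b.ofConv.comp E.toAlgEquiv.symm.toAlgHom) h (Subsingleton.elim _ _)
      refine AlgHom.ext fun x => ?_
      have hx := AlgHom.congr_fun this (E.toAlgEquiv x)
      change a.ofConv (E.toAlgEquiv.symm (E.toAlgEquiv x)) = b.ofConv (E.toAlgEquiv.symm (E.toAlgEquiv x)) at hx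
      rwa [AlgEquiv.symm_apply_apply] at hx
    have hpt : ∀ (B : Type u) [CommRing B] [Algebra k B] (χ : Multiplicative (ZMod ℓ) →* B) (m),
        (pt' B χ).ofConv (gen m) = χ m := fun B _ _ χ m => by simp [pt', gen]
    have hmul : ∀ (B : Type u) [CommRing B] [Algebra k B] (χ χ' : Multiplicative (ZMod ℓ) →* B),
        pt' B (χ * χ') = pt' B χ * pt' B χ' := fun B _ _ χ χ' => hext B _ _ fun m => by
      rw [convMul_groupLike (hgen m), hpt, hpt, hpt]; rfl
    have hone : ∀ (B : Type u) [CommRing B] [Algebra k B], pt' B 1 = 1 := fun B _ _ => by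
      refine hext B _ _ fun m => ?_
      rw [hpt, AlgHom.convOne_apply, (hgen m).counit_eq_one, map_one]
      rfl
    have hall := CommPair58.pairing_eq_one (R := k) (fun B _ _ x y => P.F B (pt' B x) (pt' B y))
      (fun B C _ _ _ _ φ x y => by
        show φ (P.F B _ _) = _
        rw [P.nat]
        congr 1 <;> exact hext C _ _ fun m => by simp [hpt, pt', gen])
      (fun B _ _ x x' y => by simp only [hmul, P.mul_left])
      (fun B _ _ x y y' => by simp only [hmul, P.mul_right])
      (fun B _ _ y => by simp only [hone, P.one_left])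
      (fun B _ _ x => by simp only [hone, P.one_right])
      (fun B _ _ x => P.diag B _) B
    let χ : WithConv (A →ₐ[k] B) → (Multiplicative (ZMod ℓ) →* B) := fun a =>
      (a.ofConv.comp E.toAlgEquiv.symm.toAlgHom).toMonoidHom.comp (MonoidAlgebra.of k _)
    have hχ : ∀ a, pt' B (χ a) = a := fun a => hext B _ _ fun m => by rw [hpt]; rfl
    have h := hall (χ f) (χ g)
    simp only [hχ] at h
    exact h
  · -- the additive case
    let t : A := E.symm (AlphaP.x ℓ k)
    have ht : CoalgebraStruct.comul (R := k) t = t ⊗ₜ[k] 1 + 1 ⊗ₜ[k] t := by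
      have h := CoalgHomClass.map_comp_comul_apply E.symm (AlphaP.x ℓ k)
      rw [show CoalgebraStruct.comul (R := k) t = Coalgebra.comul (E.symm (AlphaP.x ℓ k)) from rfl, ← h]
      simp [t]
    have ht0 : CoalgebraStruct.counit (R := k) t = 0 := by
      show Coalgebra.counit (E.symm (AlphaP.x ℓ k)) = 0
      rw [CoalgHomClass.counit_comp_apply]
      simp
    have htp : t ^ ℓ = 0 := by rw [← map_pow, AlphaP.x_pow, map_zero]
    let pt' : ∀ (B : Type u) [CommRing B] [Algebra k B] (b : B), b ^ ℓ = 0 → WithConv (A →ₐ[k] B) :=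
      fun B _ _ b hb => toConv ((AlphaP.lift ℓ k b hb).comp E.toAlgEquiv.toAlgHom)
    have hext : ∀ (B : Type u) [CommRing B] [Algebra k B] (a b : WithConv (A →ₐ[k] B)),
        a.ofConv t = b.ofConv t → a = b := fun B _ _ a b h => by
      apply WithConv.ofConv_injective
      have := AlphaP.algHom_ext (p := ℓ) (R := k) (f := a.ofConv.comp E.toAlgEquiv.symm.toAlgHom)
        (g := b.ofConv.comp E.toAlgEquiv.symm.toAlgHom) h
      refine AlgHom.ext fun x => ?_
      have hx := AlgHom.congr_fun this (E.toAlgEquiv x)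
      change a.ofConv (E.toAlgEquiv.symm (E.toAlgEquiv x)) = b.ofConv (E.toAlgEquiv.symm (E.toAlgEquiv x)) at hx
      rwa [AlgEquiv.symm_apply_apply] at hx
    have hpt : ∀ (B : Type u) [CommRing B] [Algebra k B] (b : B) (hb : b ^ ℓ = 0),
        (pt' B b hb).ofConv t = b := fun B _ _ b hb => by simp [pt', t]
    have hadd : ∀ (B : Type u) [CommRing B] [Algebra k B] (b b' : B) (hb : b ^ ℓ = 0) (hb' : b' ^ ℓ = 0)
        (hbb : (b + b') ^ ℓ = 0), pt' B (b + b') hbb = pt' B b hb * pt' B b' hb' :=
      fun B _ _ b b' hb hb' hbb => hext B _ _ (by rw [convMul_prim ht, hpt, hpt, hpt])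
    have hzero : ∀ (B : Type u) [CommRing B] [Algebra k B] (h0 : (0 : B) ^ ℓ = 0), pt' B 0 h0 = 1 :=
      fun B _ _ h0 => hext B _ _ (by
        rw [hpt, AlgHom.convOne_apply, ht0, map_zero])
    have hall := Alpha.pairing_eq_one (p := ℓ) (k := k)
      (fun B _ _ a b ha hb => P.F B (pt' B a ha) (pt' B b hb))
      (fun B C _ _ _ _ φ a b ha hb => by
        show φ (P.F B _ _) = _
        rw [P.nat]
        congr 1 <;> exact hext C _ _ (by simp [pt', t]))
      (fun B _ _ a a' b ha ha' hb haa => by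
        show P.F B _ _ = _
        rw [hadd B a a' ha ha' haa, P.mul_left])
      (fun B _ _ a b b' ha hb hb' hbb => by
        show P.F B _ _ = _
        rw [hadd B b b' hb hb' hbb, P.mul_right])
      (fun B _ _ b h0 hb => by
        show P.F B _ _ = _
        rw [hzero, P.one_left])
      (fun B _ _ a ha h0 => by
        show P.F B _ _ = _
        rw [hzero, P.one_right])
      (by
        show P.F _ _ _ = 1
        have hf : (fstHom k k k).comp (pt' k[ε] DualNumber.eps (Alpha.eps_pow hℓ.two_le)).ofConv =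
            Bialgebra.counitAlgHom k A := by
          have h1 := hext k (toConv ((fstHom k k k).comp (pt' k[ε] DualNumber.eps (Alpha.eps_pow hℓ.two_le)).ofConv))
            (toConv (Bialgebra.counitAlgHom k A)) (by simp [pt', t, ht0])
          exact congrArg WithConv.ofConv h1
        refine Eq.trans ?_ (P.tangent hloc k[ε] (k[ε])[ε] (fstHom k k k) eps1 eps2 swapEps red1 red2 swapEps_comp_eps1
          swapEps_comp_eps2 red1_comp_eps1 red1_comp_eps2 red2_comp_eps1 red2_comp_eps2 swapEps_fixed _ hf)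
        congr 1
        all_goals refine hext (DualNumber (DualNumber k)) _ _ ?_
        all_goals simp [pt', t, eps1, eps2])
      B
    have hap : ∀ a : WithConv (A →ₐ[k] B), a.ofConv t ^ ℓ = 0 := fun a => by rw [← map_pow, htp, map_zero]
    have h := hall (f.ofConv t) (g.ofConv t) (hap f) (hap g)
    rwa [show pt' B _ (hap f) = f from hext B _ _ (hpt B _ _), show pt' B _ (hap g) = g from hext B _ _ (hpt B _ _)] at h

end PairData

end Groth.Agent.CommPair58
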