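import Groth.Agent.CommPair58.Theta
import Groth.Agent.RedPts82.Points
import Mathlib.AlgebraicGeometry.Group.Affine
import Mathlib.RingTheory.Artinian.Module

/-!
The commutator pairing of a theta group over a finite group of prime order.
-/

set_option autoImplicit false
set_option backward.isDefEq.respectTransparency.types false
set_option linter.style.haveILetI false
universe u

open CategoryTheory CategoryTheory.Limits MonoidalCategory CartesianMonoidalCategory MonObj GrpObj AlgebraicGeometry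
open TrivSqZeroExt WithConv
open scoped DualNumber TensorProduct

noncomputable section

namespace Groth.Agent.CommPair58

variable {k : Type u} [Field k]

/-- the function of a point of the multiplicative group -/
def val {B : Type u} [CommRing B] [Algebra k B] (t : pt (R := k) B ⟶ Red.Gm (Spec (CommRingCat.of k))) : B :=
  (Scheme.ΓSpecIso (CommRingCat.of B)).hom (Red.gmFn t)

theorem val_mul {B : Type u} [CommRing B] [Algebra k B]
    (t t' : pt (R := k) B ⟶ Red.Gm (Spec (CommRingCat.of k))) : val (t * t') = val t * val t' := by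
  rw [val, RedPts82.gmFn_mul]
  exact map_mul (Scheme.ΓSpecIso (CommRingCat.of B)).hom.hom _ _

theorem val_one {B : Type u} [CommRing B] [Algebra k B] :
    val (1 : pt (R := k) B ⟶ Red.Gm (Spec (CommRingCat.of k))) = 1 := by
  rw [val, RedPts82.gmFn_one]
  exact map_one (Scheme.ΓSpecIso (CommRingCat.of B)).hom.hom

theorem val_injective {B : Type u} [CommRing B] [Algebra k B]
    {t t' : pt (R := k) B ⟶ Red.Gm (Spec (CommRingCat.of k))} (h : val t = val t') : t = t' :=
  RedPts82.gmFn_injective ((Scheme.ΓSpecIso (CommRingCat.of B)).commRingCatIsoToRingEquiv.injective h)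

theorem val_comp {B C : Type u} [CommRing B] [Algebra k B] [CommRing C] [Algebra k C] (φ : B →ₐ[k] C)
    (t : pt (R := k) B ⟶ Red.Gm (Spec (CommRingCat.of k))) : val (ptMap φ ≫ t) = φ (val t) := by
  rw [val, RedPts82.gmFn_comp]
  exact congr($(Scheme.ΓSpecIso_naturality (CommRingCat.ofHom φ.toRingHom)) (Red.gmFn t))

theorem exists_hopf (G : Over (Spec (CommRingCat.of k))) [GrpObj G] [IsAffine G.left] :
    ∃ (A : Type u) (_ : CommRing A) (_ : HopfAlgebra k A) (ψ : pt (R := k) A ≅ G), IsMonHom ψ.hom := by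
  obtain ⟨Hop, ⟨e⟩⟩ := (essImage_hopfSpec (G := Grp.mk G)).2 ‹_›
  exact ⟨Hop.unop, inferInstance, inferInstance, (Grp.forget _).mapIso e, e.hom.hom.isMonHom_hom⟩

section

variable {A : Type u} [CommRing A] [HopfAlgebra k A] {G K : Over (Spec (CommRingCat.of k))} [GrpObj G] [GrpObj K]
  (ψ : pt (R := k) A ≅ K)

/-- the point of a character -/
def pnt' {B : Type u} [CommRing B] [Algebra k B] (f : WithConv (A →ₐ[k] B)) : pt (R := k) B ⟶ K :=
  Spec.mapMulEquiv f ≫ ψ.hom

theorem pnt'_mul [IsMonHom ψ.hom] {B : Type u} [CommRing B] [Algebra k B] (f g : WithConv (A →ₐ[k] B)) :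
    pnt' ψ (f * g) = pnt' ψ f * pnt' ψ g := by
  rw [pnt', map_mul, MonObj.mul_comp]
  rfl

theorem pnt'_one [IsMonHom ψ.hom] {B : Type u} [CommRing B] [Algebra k B] :
    pnt' ψ (1 : WithConv (A →ₐ[k] B)) = 1 := by
  rw [pnt', map_one, MonObj.one_comp]

theorem comp_pnt' {B C : Type u} [CommRing B] [Algebra k B] [CommRing C] [Algebra k C] (φ : B →ₐ[k] C)
    (f : WithConv (A →ₐ[k] B)) : ptMap φ ≫ pnt' ψ f = pnt' ψ (toConv (φ.comp f.ofConv)) := by
  rw [pnt', pnt', ← Category.assoc]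
  congr 1
  apply Over.OverMorphism.ext
  show Spec.map _ ≫ Spec.map _ = Spec.map _
  rw [← Spec.map_comp, ← CommRingCat.ofHom_comp]
  rfl

theorem pnt'_surjective {B : Type u} [CommRing B] [Algebra k B] (x : pt (R := k) B ⟶ K) :
    ∃ f : WithConv (A →ₐ[k] B), pnt' ψ f = x :=
  ⟨Spec.mapMulEquiv.symm (x ≫ ψ.inv), by rw [pnt', MulEquiv.apply_symm_apply, Category.assoc, Iso.inv_hom_id,
    Category.comp_id]⟩

variable [IsAlgClosed k] [IsCommMonObj K] (u : Red.Gm (Spec (CommRingCat.of k)) ⟶ G) (v : G ⟶ K)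

/-- The pairing is trivial on a pair of independent tangent vectors. -/
theorem tangent_eq [IsMonHom ψ.hom] [Smooth v.left] [IsMonHom v] [IsMonHom u] (hex : NonAbH1.IsExactSeq Scheme.fppfPrecoverage u v)
    [Module.Finite k A] [IsLocalRing A] (c : K ⊗ K ⟶ Red.Gm (Spec (CommRingCat.of k)))
    (key : ∀ (T : Over (Spec (CommRingCat.of k))) (g h : T ⟶ G), g * h * g⁻¹ * h⁻¹ = (lift (g ≫ v) (h ≫ v) ≫ c) ≫ u)
    (D R₂ : Type u) [CommRing D] [Algebra k D] [CommRing R₂] [Algebra k R₂] (p₀ : D →ₐ[k] k)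
    (e₁ e₂ : D →ₐ[k] R₂) (σ : R₂ →ₐ[k] R₂) (r₁ r₂ : R₂ →ₐ[k] D) (hσ₁ : σ.comp e₁ = e₂) (hσ₂ : σ.comp e₂ = e₁)
    (h₁₁ : r₁.comp e₁ = AlgHom.id k D) (h₁₂ : r₁.comp e₂ = (Algebra.ofId k D).comp p₀)
    (h₂₁ : r₂.comp e₁ = (Algebra.ofId k D).comp p₀) (h₂₂ : r₂.comp e₂ = AlgHom.id k D)
    (hσfix : ∀ z, r₁ z = 1 → r₂ z = 1 → σ z = z)
    (f : A →ₐ[k] D) (hf : p₀.comp f = Bialgebra.counitAlgHom k A) :
    val (lift (pnt' ψ (toConv (e₁.comp f))) (pnt' ψ (toConv (e₂.comp f))) ≫ c) = 1 := by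
  haveI : IsArtinianRing A := IsArtinianRing.of_finite k A
  -- a section through the unit
  have hker' : RingHom.ker (Bialgebra.counitAlgHom k A).toRingHom ≤ IsLocalRing.maximalIdeal A :=
    IsLocalRing.le_maximalIdeal (RingHom.ker_ne_top _)
  have hnil : IsNilpotent (RingHom.ker (Bialgebra.counitAlgHom k A).toRingHom) := by
    obtain ⟨N, hN⟩ := IsArtinianRing.isNilpotent_jacobson_bot (R := A)
    rw [IsLocalRing.jacobson_eq_maximalIdeal ⊥ bot_ne_top] at hN
    exact ⟨N, le_bot_iff.1 ((Ideal.pow_right_mono hker' N).trans hN.le)⟩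
  let w : G.left ⟶ Spec (CommRingCat.of A) := (v ≫ ψ.inv).left
  haveI : IsIso ψ.inv.left := (Over.forget _).map_isIso _
  haveI : Smooth w := inferInstanceAs (Smooth (v.left ≫ ψ.inv.left))
  have hx : (η[G] : 𝟙_ _ ⟶ G).left ≫ w = Spec.map (CommRingCat.ofHom (Bialgebra.counitAlgHom k A).toRingHom) := by
    show (η[G] ≫ v ≫ ψ.inv).left = _
    rw [← Category.assoc, IsMonHom.one_hom, IsMonHom.one_hom (f := ψ.inv)]
    exact one_spec_asOver_spec_left
  obtain ⟨s₀, hs₀, hs₀x⟩ := exists_section_of_smooth w (Bialgebra.counitAlgHom k A).toRingHom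
    (fun b => ⟨algebraMap k A b, by simp⟩) hnil _ hx
  let s : pt (R := k) A ⟶ G := Over.homMk s₀ (by
    show s₀ ≫ G.hom = _
    rw [← Over.w (v ≫ ψ.inv), ← Category.assoc]
    show (s₀ ≫ w) ≫ _ = _
    rw [hs₀, Category.id_comp])
  have hsv : s ≫ v ≫ ψ.inv = 𝟙 _ := Over.OverMorphism.ext hs₀
  have hs1 : η[pt (R := k) A] ≫ s = η[G] := Over.OverMorphism.ext (by
    show (η[pt (R := k) A]).left ≫ s₀ = _
    rw [show (η[pt (R := k) A]).left = Spec.map (CommRingCat.ofHom (Bialgebra.counitAlgHom k A).toRingHom)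
      from one_spec_asOver_spec_left]
    exact hs₀x)
  let S' : ∀ {B : Type u} [CommRing B] [Algebra k B], WithConv (A →ₐ[k] B) → (pt (R := k) B ⟶ G) :=
    fun a => Spec.mapMulEquiv a ≫ s
  have hS : ∀ {B : Type u} [CommRing B] [Algebra k B] (a : WithConv (A →ₐ[k] B)), S' a ≫ v = pnt' ψ a :=
    fun a => by
      rw [pnt', Category.assoc]
      congr 1
      rw [← cancel_mono ψ.inv, Category.assoc, hsv, Iso.hom_inv_id]
  have hS1 : ∀ (B : Type u) [CommRing B] [Algebra k B], S' (1 : WithConv (A →ₐ[k] B)) = 1 := fun B _ _ => by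
    show Spec.mapMulEquiv 1 ≫ s = 1
    rw [map_one, Hom.one_def, Category.assoc, hs1, ← Hom.one_def]
  have hSc : ∀ {B C : Type u} [CommRing B] [Algebra k B] [CommRing C] [Algebra k C] (φ : B →ₐ[k] C)
      (a : WithConv (A →ₐ[k] B)), ptMap φ ≫ S' a = S' (toConv (φ.comp a.ofConv)) := fun φ a => by
    show _ ≫ _ ≫ s = _ ≫ s
    rw [← Category.assoc]
    congr 1
    apply Over.OverMorphism.ext
    show Spec.map _ ≫ Spec.map _ = Spec.map _
    rw [← Spec.map_comp, ← CommRingCat.ofHom_comp]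
    rfl
  let f1 : WithConv (A →ₐ[k] R₂) := toConv (e₁.comp f)
  let f2 : WithConv (A →ₐ[k] R₂) := toConv (e₂.comp f)
  show val (lift (pnt' ψ f1) (pnt' ψ f2) ≫ c) = 1
  have hf0 : (toConv ((Algebra.ofId k D).comp (p₀.comp f)) : WithConv (A →ₐ[k] D)) = 1 := by
    rw [hf]; rfl
  have hcomm : f1 * f2 = f2 * f1 := by
    apply (Spec.mapMulEquiv (R := k) (S := A) (T := R₂)).injective
    rw [← cancel_mono ψ.hom]
    show pnt' ψ (f1 * f2) = pnt' ψ (f2 * f1)
    rw [pnt'_mul, pnt'_mul, _root_.mul_comm]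
  obtain ⟨t, ht⟩ := ExtGrp38.ker_exists hex (x := S' (f1 * f2)) (y := S' f1 * S' f2) (by
    rw [MonObj.mul_comp, hS, hS, hS, pnt'_mul])
  have hred : ∀ (r : R₂ →ₐ[k] D) (a b : WithConv (A →ₐ[k] D)),
      toConv (r.comp f1.ofConv) = a → toConv (r.comp f2.ofConv) = b →
      toConv (r.comp (f1 * f2).ofConv) = a * b → (a = 1 ∨ b = 1) → r (val t) = 1 := by
    intro r a b hra hrb hrab hor
    have h1 := congrArg (ptMap r ≫ ·) ht
    simp only [MonObj.comp_mul, hSc, hra, hrb, hrab] at h1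
    have h2 : (ptMap r ≫ t) ≫ u = 1 := by
      rcases hor with rfl | rfl
      · rw [_root_.one_mul, hS1, _root_.one_mul, left_eq_mul] at h1
        exact (Category.assoc _ _ _).trans h1
      · rw [_root_.mul_one, hS1, _root_.mul_one, left_eq_mul] at h1
        exact (Category.assoc _ _ _).trans h1
    rw [← val_comp, (ExtGrp38.comp_inj hex).1 h2, val_one]
  have hmulc : ∀ (r : R₂ →ₐ[k] D), toConv (r.comp (f1 * f2).ofConv) =
      toConv (r.comp f1.ofConv) * toConv (r.comp f2.ofConv) := fun r =>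
    WithConv.ofConv_injective (AlgHom.comp_convMul_distrib r f1 f2)
  have hfix : σ (val t) = val t := by
    refine hσfix _ (hred r₁ (toConv f) 1 ?_ ?_ ?_ (Or.inr rfl)) (hred r₂ 1 (toConv f) ?_ ?_ ?_ (Or.inl rfl))
    · show toConv (r₁.comp (e₁.comp f)) = _
      rw [← AlgHom.comp_assoc, h₁₁, AlgHom.id_comp]
    · show toConv (r₁.comp (e₂.comp f)) = _
      rw [← AlgHom.comp_assoc, h₁₂, AlgHom.comp_assoc, hf0]
    · rw [hmulc]; congr 1
      · show toConv (r₁.comp (e₁.comp f)) = _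
        rw [← AlgHom.comp_assoc, h₁₁, AlgHom.id_comp]
      · show toConv (r₁.comp (e₂.comp f)) = _
        rw [← AlgHom.comp_assoc, h₁₂, AlgHom.comp_assoc, hf0]
    · show toConv (r₂.comp (e₁.comp f)) = _
      rw [← AlgHom.comp_assoc, h₂₁, AlgHom.comp_assoc, hf0]
    · show toConv (r₂.comp (e₂.comp f)) = _
      rw [← AlgHom.comp_assoc, h₂₂, AlgHom.id_comp]
    · rw [hmulc]; congr 1
      · show toConv (r₂.comp (e₁.comp f)) = _
        rw [← AlgHom.comp_assoc, h₂₁, AlgHom.comp_assoc, hf0]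
      · show toConv (r₂.comp (e₂.comp f)) = _
        rw [← AlgHom.comp_assoc, h₂₂, AlgHom.id_comp]
  have hsw1 : toConv (σ.comp f1.ofConv) = f2 := by
    show toConv (σ.comp (e₁.comp f)) = _
    rw [← AlgHom.comp_assoc, hσ₁]
  have hsw2 : toConv (σ.comp f2.ofConv) = f1 := by
    show toConv (σ.comp (e₂.comp f)) = _
    rw [← AlgHom.comp_assoc, hσ₂]
  have hsw12 : toConv (σ.comp (f1 * f2).ofConv) = f1 * f2 := by
    rw [show toConv (σ.comp (f1 * f2).ofConv) = toConv (σ.comp f1.ofConv) * toConv (σ.comp f2.ofConv)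
      from WithConv.ofConv_injective (AlgHom.comp_convMul_distrib σ f1 f2), hsw1, hsw2, hcomm]
  have h1 := congrArg (ptMap σ ≫ ·) ht
  simp only [MonObj.comp_mul, hSc, hsw1, hsw2, hsw12] at h1
  rw [show ptMap σ ≫ t ≫ u = t ≫ u by
    rw [← Category.assoc]; congr 1; exact val_injective (by rw [val_comp, hfix]), ← ht] at h1
  have h2 := key _ (S' f1) (S' f2)
  rw [hS, hS, ← h1, mul_inv_cancel_right, mul_inv_cancel] at h2
  rw [(ExtGrp38.comp_inj hex).1 h2.symm, val_one]

/-- A theta group over a group of prime order over an algebraically closed field is commutative. -/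
theorem comm_of_theta [IsMonHom ψ.hom] (hex : NonAbH1.IsExactSeq Scheme.fppfPrecoverage u v)
    [Smooth (Red.Gm (Spec (CommRingCat.of k))).hom]
    (hcent : ∀ (T : Over (Spec (CommRingCat.of k))) (g : T ⟶ G) (t : T ⟶ Red.Gm (Spec (CommRingCat.of k))),
      g * (t ≫ u) = (t ≫ u) * g)
    [Module.Finite k A] (ℓ : ℕ) (hℓ : ℓ.Prime) (hA : Module.finrank k A = ℓ)
    (T : Over (Spec (CommRingCat.of k))) (g h : T ⟶ G) : g * h = h * g := by
  haveI := hex.1
  haveI := hex.2.1
  obtain ⟨hsm, hsurj⟩ := smooth_of_exact hex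
  haveI := hsm; haveI := hsurj
  have hker : AlgGrp.IsKernel u v := by
    have huv : u ≫ v = toUnit _ ≫ η[K] := by rw [hex.2.2.1, Hom.one_def]
    have hc : ∀ c : PullbackCone v η[K], ∃ a : c.pt ⟶ Red.Gm (Spec (CommRingCat.of k)), c.fst = a ≫ u := fun c =>
      ExtGrp38.ker_exists_one hex (by rw [c.condition, toUnit_unique c.snd (toUnit _), Hom.one_def])
    choose a ha using hc
    exact ⟨⟨huv⟩, ⟨PullbackCone.IsLimit.mk _ a (fun c => (ha c).symm) (fun c => toUnit_unique _ _)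
      (fun c m e1 _ => ExtGrp38.ker_unique hex (e1.trans (ha c)))⟩⟩
  haveI : Mono u := AlgGrp79.mono_of_isKernel hker
  obtain ⟨c, key, hl, hr, hd⟩ := exists_pairing u v (AlgGrp79.IsCov.of_left v) hker hcent
  have hone : ∀ {T : Over (Spec (CommRingCat.of k))} (b : T ⟶ K), lift 1 b ≫ c = 1 ∧ lift b 1 ≫ c = 1 := fun b => by
    constructor
    · have h1 := hl _ 1 1 b
      rw [_root_.mul_one] at h1
      exact eq_one_of_eq_mul_self h1
    · have h1 := hr _ b 1 1
      rw [_root_.mul_one] at h1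
      exact eq_one_of_eq_mul_self h1
  have P : { P : PairData (k := k) A // ∀ (B : Type u) [CommRing B] [Algebra k B] (f g : WithConv (A →ₐ[k] B)),
      P.F B f g = val (lift (pnt' ψ f) (pnt' ψ g) ≫ c) } :=
    ⟨{ F := fun B _ _ f g => val (lift (pnt' ψ f) (pnt' ψ g) ≫ c)
       nat := fun B C _ _ _ _ φ f g => by
         rw [← val_comp, ← comp_pnt', ← comp_pnt', ← comp_lift, Category.assoc]
       mul_left := fun B _ _ f f' g => by rw [pnt'_mul, hl, val_mul]
       mul_right := fun B _ _ f g g' => by rw [pnt'_mul, hr, val_mul]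
       one_left := fun B _ _ g => by rw [pnt'_one, (hone _).1, val_one]
       one_right := fun B _ _ f => by rw [pnt'_one, (hone _).2, val_one]
       diag := fun B _ _ f => by rw [hd, val_one]
       tangent := fun hloc D R₂ _ _ _ _ p₀ e₁ e₂ σ r₁ r₂ h1 h2 h3 h4 h5 h6 h7 f hf => by
         haveI := hloc
         exact tangent_eq ψ u v hex c key D R₂ p₀ e₁ e₂ σ r₁ r₂ h1 h2 h3 h4 h5 h6 h7 f hf },
      fun B _ _ f g => rfl⟩
  suffices hc : c = 1 by
    have h1 := key T g h
    rw [hc, MonObj.comp_one, MonObj.one_comp] at h1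
    rwa [mul_inv_eq_one, mul_inv_eq_iff_eq_mul] at h1
  haveI : IsIso ψ.inv.left := (Over.forget _).map_isIso _
  haveI : IsAffine (pt (R := k) A).left := inferInstanceAs (IsAffine (Spec _))
  haveI : IsAffine K.left := IsAffine.of_isIso ψ.inv.left
  haveI : IsAffine (K ⊗ K).left := inferInstanceAs (IsAffine (pullback K.hom K.hom))
  obtain ⟨B, _, _, ⟨e⟩⟩ := exists_iso_pt (K ⊗ K)
  obtain ⟨f, hf⟩ := pnt'_surjective ψ (e.hom ≫ fst _ _)
  obtain ⟨g', hg'⟩ := pnt'_surjective ψ (e.hom ≫ snd _ _)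
  rw [← cancel_epi e.hom, MonObj.comp_one]
  apply val_injective
  rw [val_one, show e.hom = lift (e.hom ≫ fst _ _) (e.hom ≫ snd _ _) by ext : 1 <;> simp, ← hf, ← hg', ← P.2]
  exact P.1.eq_one ℓ hℓ hA B f g'

end

end Groth.Agent.CommPair58
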